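import Cfsg.Agent.H33.U6E.Stab
import Cfsg.Agent.H39.U6E.Lift

/-!
The natural module: linear isometries fixing a subspace of codimension one, and the stabiliser of
the singular vector `v0`.
-/

set_option autoImplicit false
set_option maxRecDepth 100000

namespace H16.Fi22C

open H38.U6C H50.U6C H2.U6E H33.U6E H33.U6E.Cert

theorem sing_card :
    (Finset.univ.filter fun v : V => qv v = false ∧ v ≠ 0).card = 135 := by decide +kernel

theorem hperp_card :
    (Finset.univ.filter fun v : V => herm v0 v = 0).card = 64 := by decide +kernel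

/-- The square of the product of two transvections. -/
def sg (j k : Fin 45) (a : V) : V := tvFun j (tvFun k (tvFun j (tvFun k a)))

theorem sg_fix : sg 15 25 v0 = v0 ∧ sg 15 26 v0 = v0 ∧ sg 15 34 v0 = v0 := by decide +kernel

theorem moved : ∀ d : V, qv d = false → d ≠ 0 →
    (∀ c : Fin 4, d ≠ smul4 c v0) → (∀ c : Fin 4, sg 15 25 d ≠ smul4 c d) ∨
      (∀ c : Fin 4, sg 15 26 d ≠ smul4 c d) := by decide +kernel

/-- Six vectors of the hyperplane orthogonal to `v0`, as differences. -/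
def gen : List V := [vadd 3 (sg 15 25 3), vadd 1 (sg 15 25 1), vadd 8 (sg 15 25 8),
  vadd 12 (sg 15 25 12), vadd 3 (sg 15 34 3), vadd 3 (sg 15 26 3)]

theorem gen_perp : ∀ w ∈ gen, herm v0 w = 0 := by decide +kernel

theorem gen_mem : (herm v0 3 = 0 ∧ herm v0 1 = 0) ∧ herm v0 8 = 0 ∧ herm v0 12 = 0 := by
  decide +kernel

/-- The combination with the given bits. -/
def comb (s : Fin 64) : V :=
  ((List.finRange 6).filter fun i : Fin 6 => s.val.testBit i.val).foldr
    (fun i a => vadd (gen.getD i.val 0) a) 0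

theorem comb_surj : ∀ w : V, herm v0 w = 0 → ∃ s : Fin 64, comb s = w := by decide +kernel

theorem forall_perp (P : V → Prop) (h0 : P 0) (hadd : ∀ a b, P a → P b → P (vadd a b))
    (hb : ∀ w ∈ gen, P w) {w : V} (hw : herm v0 w = 0) : P w := by
  obtain ⟨s, rfl⟩ := comb_surj w hw
  unfold comb
  induction ((List.finRange 6).filter fun i : Fin 6 => s.val.testBit i.val) with
  | nil => exact h0
  | cons i l ih =>
    refine hadd _ _ (hb _ ?_) ih
    have hi : i.val < gen.length := i.isLt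
    rw [List.getD_eq_getElem _ _ hi]
    exact List.getElem_mem hi

theorem perp_perp : ∀ v : V, (∀ i : Fin 6, pol v (gen.getD i.val 0) = false) →
    ∃ c : Fin 4, v = smul4 c v0 := by decide +kernel

theorem word_move : run [1, 6, 8] v0 = smul4 2 v0 := by decide +kernel

theorem two_three : smul4 2 (smul4 2 v0) ≠ v0 := by decide +kernel

theorem exists_run (ws : List (Fin 45)) : ∃ g ∈ uGroup, ∀ v : V, g v = run ws v := by
  induction ws with
  | nil => exact ⟨1, one_mem _, fun _ => rfl⟩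
  | cons i l ih =>
    obtain ⟨g, hg, e⟩ := ih
    exact ⟨g * tv i, mul_mem hg (Subgroup.subset_closure ⟨i, rfl⟩), fun v => e _⟩

theorem exists_sg (j k : Fin 45) :
    ∃ g ∈ uGroup, ∀ v : V, (g * g) v = sg j k v :=
  ⟨tv j * tv k, mul_mem (Subgroup.subset_closure ⟨j, rfl⟩) (Subgroup.subset_closure ⟨k, rfl⟩),
    fun _ => rfl⟩

theorem exists_to_v0 {v : V} (hq : qv v = false) (hv : v ≠ 0) :
    ∃ g ∈ uGroup, g v = v0 := by
  obtain ⟨g, hg, e⟩ := exists_run (words.getD v.val [])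
  exact ⟨g, hg, by rw [e]; exact words_ok v hq hv⟩

/-- Closed under sums and scalars. -/
def Closed (S : Finset V) : Prop :=
  (0 : V) ∈ S ∧ (∀ a ∈ S, ∀ b ∈ S, vadd a b ∈ S) ∧ ∀ (c : Fin 4), ∀ a ∈ S, smul4 c a ∈ S

theorem ext_closed {A T : Finset V} (hA : Closed A) (hT : Closed T) (hAT : A ⊆ T) {x : V}
    (hx : x ∈ T) (hn : x ∉ A) : ∃ A' : Finset V, Closed A' ∧ A' ⊆ T ∧ A'.card = 4 * A.card := by
  classical
  refine ⟨(A ×ˢ (Finset.univ : Finset (Fin 4))).image fun q => vadd q.1 (smul4 q.2.val x),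
    ⟨?_, ?_, ?_⟩, ?_, ?_⟩
  · refine Finset.mem_image.2 ⟨(0, 0), Finset.mem_product.2 ⟨hA.1, Finset.mem_univ _⟩, ?_⟩
    show vadd 0 (smul4 0 x) = 0
    rw [smul4_zero_left, vadd_zero']
  · intro a ha b hb
    obtain ⟨⟨a', c⟩, hq, rfl⟩ := Finset.mem_image.1 ha
    obtain ⟨⟨b', c'⟩, hq', rfl⟩ := Finset.mem_image.1 hb
    refine Finset.mem_image.2 ⟨(vadd a' b', ⟨c.val ^^^ c'.val, xor_lt_four c.2 c'.2⟩),
      Finset.mem_product.2 ⟨hA.2.1 _ (Finset.mem_product.1 hq).1 _ (Finset.mem_product.1 hq').1,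
        Finset.mem_univ _⟩, ?_⟩
    show vadd (vadd a' b') (smul4 (c.val ^^^ c'.val) x) = _
    rw [smul4_xor c.2 c'.2, vadd_vadd_vadd]
  · intro e a ha
    obtain ⟨⟨a', c⟩, hq, rfl⟩ := Finset.mem_image.1 ha
    refine Finset.mem_image.2 ⟨(smul4 e a', ⟨fmul e c, fmul_lt _ _⟩),
      Finset.mem_product.2 ⟨hA.2.2 _ _ (Finset.mem_product.1 hq).1, Finset.mem_univ _⟩, ?_⟩
    show vadd (smul4 e a') (smul4 (fmul e c) x) = _
    rw [smul4_vadd e.2, smul4_smul4 e.2 c.2]
  · intro a ha
    obtain ⟨⟨a', c⟩, hq, rfl⟩ := Finset.mem_image.1 ha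
    exact hT.2.1 _ (hAT (Finset.mem_product.1 hq).1) _ (hT.2.2 c x hx)
  · rw [Finset.card_image_of_injOn, Finset.card_product, Finset.card_univ, Fintype.card_fin,
      mul_comm]
    rintro ⟨s, c⟩ hq ⟨s', c'⟩ hq' e
    simp only [Finset.coe_product, Set.mem_prod, Finset.mem_coe] at hq hq'
    have e1 : vadd (vadd s (smul4 c.val x)) (vadd s' (smul4 c'.val x)) = 0 := by
      rw [show vadd s (smul4 c.val x) = vadd s' (smul4 c'.val x) from e, vadd_self]
    rw [vadd_vadd_vadd, ← smul4_xor c.2 c'.2] at e1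
    have hd := vadd_eq_zero e1
    by_cases he : c.val ^^^ c'.val = 0
    · rw [he, smul4_zero_left] at hd
      exact Prod.ext (vadd_eq_zero hd) (Fin.ext (Nat.xor_eq_zero_iff.1 he))
    · exfalso
      obtain ⟨d, hd4, hdc⟩ := (show ∀ c < 4, c ≠ 0 → ∃ d < 4, fmul d c = 1 by decide) _
        (xor_lt_four c.2 c'.2) he
      have hm := hA.2.2 ⟨d, hd4⟩ _ (hA.2.1 s hq.1 s' hq'.1)
      rw [hd] at hm
      change smul4 d (smul4 (c.val ^^^ c'.val) x) ∈ A at hm
      rw [smul4_smul4 hd4 (xor_lt_four c.2 c'.2), hdc, smul4_one] at hm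
      exact hn hm

theorem closed_zero : Closed {0} := by
  refine ⟨Finset.mem_singleton_self _, fun a ha b hb => ?_, fun c a ha => ?_⟩
  · rw [Finset.mem_singleton.1 ha, Finset.mem_singleton.1 hb, vadd_self]
    exact Finset.mem_singleton_self _
  · rw [Finset.mem_singleton.1 ha]
    exact Finset.mem_singleton.2 ((show ∀ c : Fin 4, smul4 c (0 : V) = 0 by decide) c)

theorem closed_fix {f : Equiv.Perm V} (hf : IsLin f) :
    Closed (Finset.univ.filter fun v => f v = v) := by
  refine ⟨Finset.mem_filter.2 ⟨Finset.mem_univ _, H39.U6E.lin_zero hf⟩, fun a ha b hb => ?_,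
    fun c a ha => ?_⟩ <;> rw [Finset.mem_filter] at * <;> refine ⟨Finset.mem_univ _, ?_⟩
  · rw [hf.add, ha.2, hb.2]
  · rw [hf.smul, ha.2]

/-- A closed set with more than sixteen elements inside the fixed vectors of a non-identity linear
map consists of all of them, sixty-four in number. -/
theorem closed_full {f : Equiv.Perm V} (hf : IsLin f) (hne : f ≠ 1) {S : Finset V}
    (hS : ∀ v ∈ S, f v = v) (hc : Closed S) (hbig : 16 < S.card) :
    (∀ v, f v = v → v ∈ S) ∧ S.card = 64 := by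
  have hle := lin_fix_le hf hne
  rw [Nat.card_eq_fintype_card, Fintype.card_subtype] at hle
  have hsub : S ⊆ Finset.univ.filter fun v => f v = v := fun v hv =>
    Finset.mem_filter.2 ⟨Finset.mem_univ _, hS v hv⟩
  have step : ∀ A : Finset V, Closed A → A ⊆ S → A.card < S.card →
      ∃ A' : Finset V, Closed A' ∧ A' ⊆ S ∧ A'.card = 4 * A.card := by
    intro A hA hAS hlt
    obtain ⟨x, hx, hn⟩ := Finset.exists_of_ssubset
      (Finset.ssubset_iff_subset_ne.2 ⟨hAS, fun e => hlt.ne (e ▸ rfl)⟩)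
    exact ext_closed hA hc hAS hx hn
  obtain ⟨A₁, h₁, s₁, c₁⟩ := step {0} closed_zero
    (Finset.singleton_subset_iff.2 hc.1) (by rw [Finset.card_singleton]; omega)
  rw [Finset.card_singleton] at c₁
  obtain ⟨A₂, h₂, s₂, c₂⟩ := step A₁ h₁ s₁ (by omega)
  obtain ⟨A₃, -, s₃, c₃⟩ := step A₂ h₂ s₂ (by omega)
  have h3 := Finset.card_le_card s₃
  have hS64 := Finset.card_le_card hsub
  refine ⟨fun v hv => ?_, by omega⟩
  rw [Finset.eq_of_subset_of_card_le hsub (by omega)]
  exact Finset.mem_filter.2 ⟨Finset.mem_univ _, hv⟩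

/-- A fixed subspace of codimension one is completed by one vector. -/
theorem span_fix {f : Equiv.Perm V} (hf : IsLin f)
    (h64 : (Finset.univ.filter fun v => f v = v).card = 64) {v : V} (hv : f v ≠ v) (u : V) :
    ∃ w, f w = w ∧ ∃ c : Fin 4, u = vadd w (smul4 c v) := by
  let F : {a : V // f a = a} × Fin 4 → V := fun q => vadd q.1.1 (smul4 q.2.val v)
  have hF : Function.Injective F := fun q q' h => by
    have h1 : vadd (vadd q.1.1 (smul4 q.2.val v)) (vadd q'.1.1 (smul4 q'.2.val v)) = 0 := by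
      rw [show vadd q.1.1 (smul4 q.2.val v) = vadd q'.1.1 (smul4 q'.2.val v) from h, vadd_self]
    rw [vadd_vadd_vadd, ← smul4_xor q.2.2 q'.2.2] at h1
    have hd := vadd_eq_zero h1
    by_cases he : q.2.val ^^^ q'.2.val = 0
    · rw [he, smul4_zero_left] at hd
      exact Prod.ext (Subtype.ext (vadd_eq_zero hd)) (Fin.ext (Nat.xor_eq_zero_iff.1 he))
    · exfalso
      apply hv
      have h2 := congrArg f hd
      rw [hf.add, q.1.2, q'.1.2, hd, show f (smul4 (q.2.val ^^^ q'.2.val) v) =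
        smul4 (q.2.val ^^^ q'.2.val) (f v) from hf.smul ⟨_, xor_lt_four q.2.2 q'.2.2⟩ v] at h2
      refine (vadd_eq_zero (smul_inj (xor_lt_four q.2.2 q'.2.2) he ?_)).symm
      rw [smul4_vadd (xor_lt_four q.2.2 q'.2.2), h2, vadd_self]
  have hb : Function.Bijective F := (Fintype.bijective_iff_injective_and_card _).2 ⟨hF, by
    simp [Fintype.card_subtype, h64]⟩
  obtain ⟨⟨w, c⟩, hq⟩ := hb.surjective u
  exact ⟨w.1, w.2, c, hq.symm⟩

theorem eq_zero_of_herm {e : V} (h : ∀ u, herm e u = 0) : e = 0 :=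
  H39.U6E.pol_nondeg_bvec e fun i => by simp [pol, h]

/-- The axis of a linear involution fixing a subspace of codimension one. -/
theorem axis {f : Equiv.Perm V} (hf : IsLin f) (hi : f * f = 1)
    (h64 : (Finset.univ.filter fun v => f v = v).card = 64) :
    ∃ d : V, d ≠ 0 ∧ qv d = false ∧ (∀ u, ∃ c : Fin 4, vadd u (f u) = smul4 c d) ∧
      (∀ w, f w = w → herm d w = 0) := by
  obtain ⟨v, hv⟩ : ∃ v, f v ≠ v := by
    by_contra h
    push Not at h
    rw [Finset.filter_true_of_mem fun v _ => h v] at h64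
    simp at h64
  have hperp : ∀ w, f w = w → herm (vadd v (f v)) w = 0 := fun w hw => by
    rw [herm_vadd_left]
    have := hf.herm_eq v w
    rw [hw] at this
    rw [this, Nat.xor_self]
  have hfd : f (vadd v (f v)) = vadd v (f v) := by
    rw [hf.add, show f (f v) = v from DFunLike.congr_fun hi v, H50.U6C.vadd_comm]
  refine ⟨vadd v (f v), fun e => hv (vadd_eq_zero e).symm, ?_, fun u => ?_, hperp⟩
  · simp [qv, hperp _ hfd]
  · obtain ⟨w, hw, c, rfl⟩ := span_fix hf h64 hv u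
    refine ⟨c, ?_⟩
    rw [hf.add, hw, hf.smul, vadd_vadd_vadd, vadd_self, ← smul4_vadd c.2, H50.U6C.vadd_comm 0,
      vadd_zero']

/-- An isometry is determined by a fixed subspace of codimension one, unless it is the identity. -/
theorem eq_of_same_fix {f h : Equiv.Perm V} (hf : IsLin f) (hh : IsLin h) (hi : f * f = 1)
    (h64 : (Finset.univ.filter fun v => f v = v).card = 64)
    (hsame : ∀ v, f v = v → h v = v) (hne : h ≠ 1) : h = f := by
  obtain ⟨v, hv⟩ : ∃ v, f v ≠ v := by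
    by_contra h'
    push Not at h'
    rw [Finset.filter_true_of_mem fun v _ => h' v] at h64
    simp at h64
  have hhv : h v ≠ v := by
    intro e
    refine hne (Equiv.ext fun u => ?_)
    obtain ⟨w, hw, c, rfl⟩ := span_fix hf h64 hv u
    rw [hh.add, hsame w hw, hh.smul, e]
    rfl
  obtain ⟨d, hd⟩ : ∃ d, d = vadd v (f v) := ⟨_, rfl⟩
  obtain ⟨d', hd'⟩ : ∃ d', d' = vadd v (h v) := ⟨_, rfl⟩
  have hperp : ∀ w, f w = w → herm d w = 0 ∧ herm d' w = 0 := fun w hw => by
    refine ⟨?_, ?_⟩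
    · rw [hd, herm_vadd_left]
      have := hf.herm_eq v w
      rw [hw] at this
      rw [this, Nat.xor_self]
    · rw [hd', herm_vadd_left]
      have := hh.herm_eq v w
      rw [hsame w hw] at this
      rw [this, Nat.xor_self]
  -- `d'` is a multiple of `d`
  have ht0 : herm d v ≠ 0 := fun e => hv (by
    have : d = 0 := eq_zero_of_herm fun u => by
      obtain ⟨w, hw, c, rfl⟩ := span_fix hf h64 hv u
      rw [herm_vadd_right, herm_smul_right c.2, (hperp w hw).1, e]
      exact (show ∀ x < 4, 0 ^^^ fmul x 0 = 0 by decide) _ c.2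
    rw [hd] at this; exact (vadd_eq_zero this).symm)
  obtain ⟨x, hx⟩ := (show ∀ t < 4, t ≠ 0 → ∀ s < 4, ∃ x : Fin 4, s ^^^ fmul (fconj x) t = 0 by
    decide) _ (herm_lt d v) ht0 _ (herm_lt d' v)
  have he : d' = smul4 x d := by
    refine vadd_eq_zero (eq_zero_of_herm fun u => ?_)
    obtain ⟨w, hw, c, rfl⟩ := span_fix hf h64 hv u
    rw [herm_vadd_right, herm_smul_right c.2, herm_vadd_left w, herm_vadd_left v,
      herm_smul_left x.2, herm_smul_left x.2, (hperp w hw).1, (hperp w hw).2, hx]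
    exact (show ∀ x < 4, ∀ c < 4, (0 ^^^ fmul (fconj x) 0) ^^^ fmul c 0 = 0 by decide) _ x.2 _ c.2
  have hfv : f v = vadd v d := by rw [hd, ← H50.U6C.vadd_assoc, vadd_self, H50.U6C.vadd_comm, vadd_zero']
  have hhv' : h v = vadd v (smul4 x d) := by
    rw [← he, hd', ← H50.U6C.vadd_assoc, vadd_self, H50.U6C.vadd_comm, vadd_zero']
  -- the isometry condition
  have key : ∀ y : Fin 4, herm (vadd v (smul4 y d)) (vadd v (smul4 y d)) = herm v v →
      (fmul y (fconj (herm d v)) ^^^ fmul (fconj y) (herm d v) ^^^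
        fmul (fconj y) (fmul y (herm d d))) = 0 := by
    intro y e
    rw [herm_vadd_left, herm_vadd_right, herm_vadd_right, herm_smul_left y.2, herm_smul_left y.2,
      herm_smul_right y.2, herm_smul_right y.2, herm_conj d v] at e
    exact (show ∀ n < 2, ∀ a < 4, ∀ b < 4, ∀ c < 4,
      (n ^^^ a) ^^^ (b ^^^ c) = n → a ^^^ b ^^^ c = 0 by decide) _ (herm_self_lt v) _ (fmul_lt _ _)
      _ (fmul_lt _ _) _ (fmul_lt _ _) e
  have hdd : herm d d = 0 := (hperp d (by
    rw [hd, hf.add, show f (f v) = v from DFunLike.congr_fun hi v, H50.U6C.vadd_comm])).1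
  have k1 := key 1 (by
    show herm (vadd v (smul4 1 d)) (vadd v (smul4 1 d)) = _
    rw [smul4_one, ← hfv, hf.herm_eq])
  have k2 := key x (by rw [← hhv', hh.herm_eq])
  have hx01 : x = 0 ∨ x = 1 := (show ∀ t < 4, t ≠ 0 → ∀ x : Fin 4,
    fmul (1 : Fin 4) (fconj t) ^^^ fmul (fconj (1 : Fin 4)) t ^^^
      fmul (fconj (1 : Fin 4)) (fmul (1 : Fin 4) 0) = 0 →
    fmul x (fconj t) ^^^ fmul (fconj x) t ^^^ fmul (fconj x) (fmul x 0) = 0 → x = 0 ∨ x = 1 by
      decide) _ (herm_lt d v) ht0 x (by rwa [hdd] at k1) (by rwa [hdd] at k2)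
  rcases hx01 with rfl | rfl
  · exfalso
    exact hhv (hhv'.trans (by
      show vadd v (smul4 0 d) = v
      rw [smul4_zero_left, vadd_zero']))
  · refine Equiv.ext fun u => ?_
    obtain ⟨w, hw, c, rfl⟩ := span_fix hf h64 hv u
    rw [hh.add, hf.add, hh.smul, hf.smul, hsame w hw, hw, hhv', hfv]
    exact congrArg (fun z => vadd w (smul4 c.val (vadd v z))) (smul4_one d)

end H16.Fi22C
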