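import Cfsg.Agent.H16.Fi22C.SwapWCJ

/-!
Involutions of the inner half outside the core: what they centralise in the core, for a fixed space
of codimension one or two.
-/

set_option autoImplicit false
set_option maxRecDepth 100000
set_option linter.unusedSectionVars false

namespace H16.Fi22C

open H38.U6C H50.U6C H2.U6E H39.Fi22C H33.U6E.Cert

variable {G : Type*} [Group G] [Finite G] {F : Type*} [Field F] [Fintype F] {z a : G}
  {J H₀ : Subgroup G} {π : ↥H₀ →* Cfsg.PSp 2 F} {φ : G → V}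
  {ρ : ↥(Subgroup.centralizer ({z} : Set G)) →* Equiv.Perm V}
  (S : Setup3 z a J H₀ π) (N : NatJ z a J H₀ φ ρ)

include S N

theorem ρ₀_ker_iff (g : ↥H₀) : ρ₀ S ρ g = 1 ↔ (g : G) ∈ J :=
  N.toCore.ρ_ker ⟨g, S.le_cent g.2⟩

theorem φ_conj (g : ↥H₀) {p : G} (hp : p ∈ J) :
    φ ((g : G) * p * (g : G)⁻¹) = ρ₀ S ρ g (φ p) :=
  N.toCore.ρ_φ ⟨g, S.le_cent g.2⟩ p hp

theorem invol_image {b : ↥H₀} (h2 : (b : G) * b = 1) : ρ₀ S ρ b * ρ₀ S ρ b = 1 := by
  rw [← map_mul, show b * b = 1 from Subtype.ext h2, map_one]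

theorem fix_of_commute {b : ↥H₀} {p : G} (hp : p ∈ J) (hc : Commute (b : G) p) :
    ρ₀ S ρ b (φ p) = φ p := by
  rw [← φ_conj S N b hp, commute_iff_conj.1 hc]

/-- The normalised case: a transvection at `v0` multiplies its hyperplane's preimage by `⟨z⟩`. -/
theorem alpha0 {b : ↥H₀} (h2 : (b : G) * b = 1)
    (h64 : (Finset.univ.filter fun v : V => ρ₀ S ρ b v = v).card = 64)
    (hfix : ∀ v, ρ₀ S ρ b v = v ↔ herm v0 v = 0) {p : G} (hp : p ∈ J)
    (hv : ρ₀ S ρ b (φ p) = φ p) :
    (b : G) * p * (b : G)⁻¹ = p ∨ (b : G) * p * (b : G)⁻¹ = p * z := by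
  have hfl : IsLin (ρ₀ S ρ b) := isLin_of_isom (ρ₀_isom S N b)
  have hff := invol_image S N h2
  have hfne : ρ₀ S ρ b ≠ 1 := fun e => by
    rw [Finset.filter_true_of_mem fun v _ => by rw [e]; rfl] at h64
    simp at h64
  have hzc : ∀ q ∈ J, Commute z q := fun q hq => (mem_cent_iff.1 (J_le_cent S hq)).symm
  have hbz : ∀ r ∈ zsub S, Commute (b : G) r := fun r hr => (zsub_comm S hr b.2).symm
  refine forall_perp (fun w => ∀ p ∈ J, φ p = w →
    (b : G) * p * (b : G)⁻¹ = p ∨ (b : G) * p * (b : G)⁻¹ = p * z) ?_ ?_ ?_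
    ((hfix _).1 hv) p hp rfl
  · intro p hp e
    exact Or.inl (commute_iff_conj.1 (hbz p (mem_zsub.2 ((N.toCore.φ_ker p hp).1 e))))
  · intro u v hu hv p hp e
    obtain ⟨p₁, hp₁, e₁⟩ := N.toCore.φ_surj u
    obtain ⟨p₂, hp₂, e₂⟩ := N.toCore.φ_surj v
    obtain ⟨r, hr, rfl⟩ := φ_fibre N.toCore hp (mul_mem hp₁ hp₂)
      (by rw [N.toCore.φ_mul _ hp₁ _ hp₂, e₁, e₂, e])
    have hr' : r ∈ zsub S := mem_zsub.2 hr
    rw [show (b : G) * (p₁ * p₂ * r) * (b : G)⁻¹ = ((b : G) * p₁ * (b : G)⁻¹) *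
      ((b : G) * p₂ * (b : G)⁻¹) * ((b : G) * r * (b : G)⁻¹) by group,
      commute_iff_conj.1 (hbz r hr')]
    have hzr : Commute z r := hzc r (zsub_le S hr')
    rcases hu p₁ hp₁ e₁ with h | h <;> rcases hv p₂ hp₂ e₂ with h' | h' <;> rw [h, h']
    · exact Or.inl rfl
    · exact Or.inr (by rw [show p₁ * (p₂ * z) * r = p₁ * p₂ * (z * r) by group, hzr.eq]; group)
    · exact Or.inr (by
        rw [show p₁ * z * p₂ * r = p₁ * (z * (p₂ * r)) by group,
          (hzc (p₂ * r) (mul_mem hp₂ (zsub_le S hr'))).eq]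
        group)
    · refine Or.inl ?_
      rw [show p₁ * z * (p₂ * z) * r = p₁ * (z * p₂) * (z * r) by group, (hzc p₂ hp₂).eq, hzr.eq,
        show p₁ * (p₂ * z) * (r * z) = p₁ * p₂ * (z * r) * z by group, hzr.eq,
        show p₁ * p₂ * (r * z) * z = p₁ * p₂ * r * (z * z) by group, S.sq, mul_one]
  · intro w hw p hp e
    have key : ∀ (j k : Fin 45), (tv j * tv k) v0 = v0 → ∀ w₁, herm v0 w₁ = 0 →
        φ p = vadd w₁ (sg j k w₁) →
        (b : G) * p * (b : G)⁻¹ = p ∨ (b : G) * p * (b : G)⁻¹ = p * z := by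
      intro j k hfix0 w₁ hw₁ e'
      have hmem : tv j * tv k ∈ uGroup := mul_mem (Subgroup.subset_closure ⟨j, rfl⟩)
        (Subgroup.subset_closure ⟨k, rfl⟩)
      rw [← ρ₀_range S N] at hmem
      obtain ⟨g₀, hg₀⟩ := hmem
      have hgv : ρ₀ S ρ g₀ v0 = v0 := by rw [hg₀]; exact hfix0
      have hgl := isLin_of_isom (ρ₀_isom S N g₀)
      have hperp : ∀ v, herm v0 (ρ₀ S ρ g₀ v) = 0 ↔ herm v0 v = 0 := fun v => by
        have e := hgl.herm_eq v0 v
        rw [hgv] at e
        rw [e]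
      have hconj : ρ₀ S ρ g₀ * ρ₀ S ρ b * (ρ₀ S ρ g₀)⁻¹ = ρ₀ S ρ b := by
        refine eq_of_same_fix hfl (isLin_of_isom (mul_mem (mul_mem (ρ₀_isom S N g₀)
          (ρ₀_isom S N b)) (inv_mem (ρ₀_isom S N g₀)))) hff h64 ?_ ?_
        · intro v hv
          have h1 : ρ₀ S ρ b ((ρ₀ S ρ g₀)⁻¹ v) = (ρ₀ S ρ g₀)⁻¹ v := by
            refine (hfix _).2 ((hperp _).1 ?_)
            rw [show ρ₀ S ρ g₀ ((ρ₀ S ρ g₀)⁻¹ v) = v from Equiv.apply_symm_apply _ v]
            exact (hfix v).1 hv
          show ρ₀ S ρ g₀ (ρ₀ S ρ b ((ρ₀ S ρ g₀)⁻¹ v)) = v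
          rw [h1]
          exact Equiv.apply_symm_apply _ v
        · intro e
          exact hfne (conj_eq_one_iff.1 e)
      set g : ↥H₀ := g₀ * g₀ with hg
      have eg : ∀ v, ρ₀ S ρ g v = sg j k v := fun v => by
        rw [hg, map_mul, hg₀]
        rfl
      have hconj2 : ρ₀ S ρ g * ρ₀ S ρ b * (ρ₀ S ρ g)⁻¹ = ρ₀ S ρ b := by
        rw [hg, map_mul, mul_inv_rev,
          show ρ₀ S ρ g₀ * ρ₀ S ρ g₀ * ρ₀ S ρ b * ((ρ₀ S ρ g₀)⁻¹ * (ρ₀ S ρ g₀)⁻¹) =
            ρ₀ S ρ g₀ * (ρ₀ S ρ g₀ * ρ₀ S ρ b * (ρ₀ S ρ g₀)⁻¹) * (ρ₀ S ρ g₀)⁻¹ by group,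
          hconj, hconj]
      have hj : ((b⁻¹ * (g * b * g⁻¹) : ↥H₀) : G) ∈ J := by
        rw [← ρ₀_ker_iff S N, map_mul, map_mul, map_mul, map_inv, map_inv, hconj2, inv_mul_cancel]
      set j₀ : G := ((b⁻¹ * (g * b * g⁻¹) : ↥H₀) : G) with hj₀
      have hgb : (g : G) * b * (g : G)⁻¹ = b * j₀ := by
        rw [hj₀]; push_cast; group
      obtain ⟨q, hq, eq⟩ := N.toCore.φ_surj w₁
      have hbq : φ ((b : G) * q * (b : G)⁻¹) = φ q := by
        rw [φ_conj S N b hq, eq]
        exact (hfix _).2 hw₁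
      obtain ⟨r, hr, er⟩ := φ_fibre N.toCore (S.conj_mem b (S.le_cent b.2) q hq) hq hbq
      have hr' : r ∈ zsub S := mem_zsub.2 hr
      set q' := (g : G) * q * (g : G)⁻¹ with hq'
      have hq'J : q' ∈ J := S.conj_mem g (S.le_cent g.2) q hq
      have e1 : (b : G) * (j₀ * q' * j₀⁻¹) * (b : G)⁻¹ = q' * r := by
        have h1 : ((g : G) * b * (g : G)⁻¹) * q' * ((g : G) * b * (g : G)⁻¹)⁻¹ = q' * r := by
          calc ((g : G) * b * (g : G)⁻¹) * q' * ((g : G) * b * (g : G)⁻¹)⁻¹
              = (g : G) * ((b : G) * q * (b : G)⁻¹) * (g : G)⁻¹ := by rw [hq']; group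
            _ = q' * ((g : G) * r * (g : G)⁻¹) := by rw [er, hq']; group
            _ = q' * r := by rw [commute_iff_conj.1 (zsub_comm S hr' g.2).symm]
        rw [hgb] at h1
        rw [← h1]
        group
      have hrJ : r ∈ J := zsub_le S hr'
      have hcomm : (b : G) * q' * (b : G)⁻¹ = q' * r ∨
          (b : G) * q' * (b : G)⁻¹ = q' * r * z := by
        rcases S.comm_mem j₀ hj q' hq'J with h | h
        · left
          rwa [h, mul_inv_cancel_right] at e1
        · right
          rw [h, mul_assoc q' j₀ z, ((mem_cent_iff.1 (J_le_cent S hj))).eq, ← mul_assoc q' z j₀,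
            mul_inv_cancel_right, show (b : G) * (q' * z) * (b : G)⁻¹ =
              (b : G) * q' * (b : G)⁻¹ * ((b : G) * z * (b : G)⁻¹) by group,
            commute_iff_conj.1 (mem_cent_iff.1 (S.le_cent b.2))] at e1
          rw [← e1, mul_assoc _ z z, S.sq, mul_one]
      have hrq : Commute r q := zsub_comm S hr' (S.J_le hq)
      have hrq' : Commute r q' := zsub_comm S hr' (S.J_le hq'J)
      have hprod : (b : G) * (q⁻¹ * q') * (b : G)⁻¹ = q⁻¹ * q' ∨
          (b : G) * (q⁻¹ * q') * (b : G)⁻¹ = q⁻¹ * q' * z := by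
        have e2 : (b : G) * (q⁻¹ * q') * (b : G)⁻¹ =
            ((b : G) * q * (b : G)⁻¹)⁻¹ * ((b : G) * q' * (b : G)⁻¹) := by group
        rw [e2, er, hrq.symm.eq, mul_inv_rev]
        rcases hcomm with h | h <;> rw [h]
        · left
          rw [show q⁻¹ * r⁻¹ * (q' * r) = q⁻¹ * (r⁻¹ * q') * r by group, hrq'.inv_left.eq]
          group
        · right
          rw [show q⁻¹ * r⁻¹ * (q' * r * z) = q⁻¹ * (r⁻¹ * q') * r * z by group,
            hrq'.inv_left.eq]
          group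
      obtain ⟨r', hr2, rfl⟩ := φ_fibre N.toCore hp (mul_mem (inv_mem hq) hq'J) (by
        rw [e', N.toCore.φ_mul _ (inv_mem hq) _ hq'J, φ_inv N.toCore hq, hq', φ_conj S N g hq,
          eg, eq])
      have hr2' : r' ∈ zsub S := mem_zsub.2 hr2
      rw [show (b : G) * (q⁻¹ * q' * r') * (b : G)⁻¹ =
        (b : G) * (q⁻¹ * q') * (b : G)⁻¹ * ((b : G) * r' * (b : G)⁻¹) by group,
        commute_iff_conj.1 (hbz r' hr2')]
      rcases hprod with h | h <;> rw [h]
      · exact Or.inl rfl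
      · exact Or.inr (by rw [mul_assoc, (hzc r' (zsub_le S hr2')).eq, ← mul_assoc])
    simp only [gen, List.mem_cons, List.not_mem_nil, or_false] at hw
    obtain ⟨⟨h3, h1⟩, h8, h12⟩ := gen_mem
    rcases hw with rfl | rfl | rfl | rfl | rfl | rfl
    · exact key 15 25 (by decide +kernel) _ h3 e
    · exact key 15 25 (by decide +kernel) _ h1 e
    · exact key 15 25 (by decide +kernel) _ h8 e
    · exact key 15 25 (by decide +kernel) _ h12 e
    · exact key 15 34 (by decide +kernel) _ h3 e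
    · exact key 15 26 (by decide +kernel) _ h3 e

/-- An involution over a transvection multiplies the preimage of its hyperplane by `⟨z⟩`. -/
theorem alpha {b : ↥H₀} (h2 : (b : G) * b = 1)
    (h64 : (Finset.univ.filter fun v : V => ρ₀ S ρ b v = v).card = 64) {p : G} (hp : p ∈ J)
    (hv : ρ₀ S ρ b (φ p) = φ p) :
    (b : G) * p * (b : G)⁻¹ = p ∨ (b : G) * p * (b : G)⁻¹ = p * z := by
  classical
  set f := ρ₀ S ρ b with hf
  have hfl : IsLin f := isLin_of_isom (ρ₀_isom S N b)
  obtain ⟨d, hd0, hdq, -, hperp⟩ := axis hfl (invol_image S N h2) h64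
  obtain ⟨γ, hγ, eγ⟩ := exists_to_v0 hdq hd0
  rw [← ρ₀_range S N] at hγ
  obtain ⟨g, rfl⟩ := hγ
  have hgl := isLin_of_isom (ρ₀_isom S N g)
  set b' : ↥H₀ := g * b * g⁻¹ with hb'
  have hb'2 : (b' : G) * b' = 1 := by
    rw [hb']; push_cast
    rw [show (g : G) * b * (g : G)⁻¹ * ((g : G) * b * (g : G)⁻¹) =
      (g : G) * ((b : G) * b) * (g : G)⁻¹ by group, h2]
    group
  have himg : ∀ v, ρ₀ S ρ b' (ρ₀ S ρ g v) = ρ₀ S ρ g (f v) := fun v => by
    rw [hb', map_mul, map_mul, map_inv]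
    show ρ₀ S ρ g (f ((ρ₀ S ρ g)⁻¹ (ρ₀ S ρ g v))) = _
    rw [Equiv.Perm.inv_def, Equiv.symm_apply_apply]
  have hset : (Finset.univ.filter fun v : V => ρ₀ S ρ b' v = v) =
      (Finset.univ.filter fun v : V => f v = v).image (ρ₀ S ρ g) := by
    ext v
    obtain ⟨u, rfl⟩ := (ρ₀ S ρ g).surjective v
    simp [himg]
  have h64' : (Finset.univ.filter fun v : V => ρ₀ S ρ b' v = v).card = 64 := by
    rw [hset, Finset.card_image_of_injective _ (ρ₀ S ρ g).injective, h64]
  have hfix : ∀ v, ρ₀ S ρ b' v = v ↔ herm v0 v = 0 := by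
    have hsub : (Finset.univ.filter fun v : V => ρ₀ S ρ b' v = v) ⊆
        Finset.univ.filter fun v : V => herm v0 v = 0 := by
      intro v hv
      rw [hset, Finset.mem_image] at hv
      obtain ⟨u, hu, rfl⟩ := hv
      refine Finset.mem_filter.2 ⟨Finset.mem_univ _, ?_⟩
      rw [← eγ, hgl.herm_eq]
      exact hperp u (Finset.mem_filter.1 hu).2
    have heq := Finset.eq_of_subset_of_card_le hsub (by rw [h64', hperp_card])
    intro v
    simpa using Finset.ext_iff.1 heq v
  have hgp := S.conj_mem g (S.le_cent g.2) p hp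
  have h := alpha0 S N hb'2 h64' hfix hgp (by rw [φ_conj S N g hp, himg, hv])
  have e0 : (b' : G) * ((g : G) * p * (g : G)⁻¹) * (b' : G)⁻¹ =
      (g : G) * ((b : G) * p * (b : G)⁻¹) * (g : G)⁻¹ := by
    rw [hb']; push_cast; group
  have hgz := mem_cent_iff.1 (S.le_cent g.2)
  rw [e0] at h
  rcases h with h | h
  · exact Or.inl (mul_left_cancel (mul_right_cancel h))
  · refine Or.inr (mul_left_cancel (a := (g : G)) (mul_right_cancel (b := (g : G)⁻¹) ?_))
    rw [h, ← mul_assoc (g : G) p z, mul_assoc ((g : G) * p) z, ← hgz.inv_left.eq]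
    group

/-- At least half of the preimage of the hyperplane is centralised. -/
theorem cent_big {b : ↥H₀} (h2 : (b : G) * b = 1)
    (h64 : (Finset.univ.filter fun v : V => ρ₀ S ρ b v = v).card = 64) :
    128 ≤ {p | p ∈ J ∧ Commute (b : G) p}.ncard := by
  classical
  haveI := Fintype.ofFinite G
  set f := ρ₀ S ρ b with hf
  obtain ⟨sel, hsel⟩ : ∃ sel : V → G, ∀ v, sel v ∈ J ∧ φ (sel v) = v :=
    ⟨fun v => Classical.choose (N.toCore.φ_surj v), fun v =>
      Classical.choose_spec (N.toCore.φ_surj v)⟩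
  set Fx := Finset.univ.filter fun v : V => f v = v with hFx
  set P : Finset G := Finset.univ.filter fun p => p ∈ J ∧ f (φ p) = φ p with hP
  have hz4 : ∀ r, r ∈ ({1, z, a, a * z} : Finset G) → r ∈ J ∧ φ r = 0 := by
    intro r hr
    have hr' : r = 1 ∨ r = z ∨ r = a ∨ r = a * z := by simpa using hr
    have hm : r ∈ J := zsub_le S (mem_zsub.2 hr')
    exact ⟨hm, (N.toCore.φ_ker r hm).2 hr'⟩
  have h4 : ({1, z, a, a * z} : Finset G).card = 4 := by
    have h1 : a * z ≠ 1 := fun e => S.a_out.2 (by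
      rw [eq_inv_of_mul_eq_one_left e, inv_eq_of_mul_eq_one_right S.sq])
    have h2 : a * z ≠ z := fun e => S.a_out.1 (mul_eq_right.1 e)
    have h3 : a * z ≠ a := fun e => S.ne_one (mul_eq_left.1 e)
    simp [Finset.card_insert_of_notMem, S.ne_one.symm, S.a_out.1.symm, S.a_out.2.symm, h1.symm,
      h2.symm, h3.symm]
  have hP256 : 256 ≤ P.card := by
    calc 256 = (Fx ×ˢ ({1, z, a, a * z} : Finset G)).card := by
          rw [Finset.card_product, h4, h64]
      _ ≤ P.card := by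
        refine Finset.card_le_card_of_injOn (fun e => sel e.1 * e.2) ?_ ?_
        · rintro ⟨v, r⟩ hvr
          simp only [Finset.coe_product, Set.mem_prod, Finset.mem_coe] at hvr
          obtain ⟨hrJ, hr0⟩ := hz4 r hvr.2
          refine Finset.mem_coe.2 (Finset.mem_filter.2 ⟨Finset.mem_univ _,
            mul_mem (hsel v).1 hrJ, ?_⟩)
          rw [N.toCore.φ_mul _ (hsel v).1 _ hrJ, hr0, vadd_zero', (hsel v).2]
          exact (Finset.mem_filter.1 hvr.1).2
        · rintro ⟨v, r⟩ hvr ⟨v', r'⟩ hvr' e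
          simp only [Finset.coe_product, Set.mem_prod, Finset.mem_coe] at hvr hvr'
          have e' : sel v * r = sel v' * r' := e
          have hv : v = v' := by
            have := congrArg φ e'
            rwa [N.toCore.φ_mul _ (hsel v).1 _ (hz4 r hvr.2).1,
              N.toCore.φ_mul _ (hsel v').1 _ (hz4 r' hvr'.2).1, (hz4 r hvr.2).2, (hz4 r' hvr'.2).2,
              vadd_zero', vadd_zero', (hsel v).2, (hsel v').2] at this
          subst hv
          rw [mul_left_cancel e']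
  have hsplit : ∀ p ∈ P, (b : G) * p * (b : G)⁻¹ = p ∨ (b : G) * p * (b : G)⁻¹ = p * z :=
    fun p hp => alpha S N h2 h64 (Finset.mem_filter.1 hp).2.1 (Finset.mem_filter.1 hp).2.2
  set C : Finset G := Finset.univ.filter fun p => p ∈ J ∧ Commute (b : G) p with hC
  have hP2 : P.card ≤ 2 * C.card := by
    rw [← Finset.card_filter_add_card_filter_not (s := P) (fun p => Commute (b : G) p)]
    have h1 : (P.filter fun p => Commute (b : G) p).card ≤ C.card :=
      Finset.card_le_card fun p hp => Finset.mem_filter.2 ⟨Finset.mem_univ _,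
        (Finset.mem_filter.1 (Finset.mem_filter.1 hp).1).2.1, (Finset.mem_filter.1 hp).2⟩
    have h2' : (P.filter fun p => ¬ Commute (b : G) p).card ≤ C.card := by
      rcases (P.filter fun p => ¬ Commute (b : G) p).eq_empty_or_nonempty with e | ⟨q, hq⟩
      · rw [e]; simp
      · refine Finset.card_le_card_of_injOn (fun p => p * q⁻¹) ?_ ?_
        · intro p hp
          rw [Finset.mem_coe, Finset.mem_filter] at hp
          rw [Finset.mem_filter] at hq
          refine Finset.mem_coe.2 (Finset.mem_filter.2 ⟨Finset.mem_univ _,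
            mul_mem (Finset.mem_filter.1 hp.1).2.1 (inv_mem (Finset.mem_filter.1 hq.1).2.1),
            commute_iff_conj.2 ?_⟩)
          have ep := (hsplit p hp.1).resolve_left fun e => hp.2 (commute_iff_conj.2 e)
          have eq := (hsplit q hq.1).resolve_left fun e => hq.2 (commute_iff_conj.2 e)
          calc (b : G) * (p * q⁻¹) * (b : G)⁻¹ =
              ((b : G) * p * (b : G)⁻¹) * ((b : G) * q * (b : G)⁻¹)⁻¹ := by group
            _ = p * q⁻¹ := by rw [ep, eq]; group
        · exact fun p _ p' _ e => mul_right_cancel e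
    omega
  have hCeq : {p | p ∈ J ∧ Commute (b : G) p}.ncard = C.card := by
    rw [← Set.ncard_coe_finset, hC, Finset.coe_filter]
    simp
  omega

/-- An involution with a sixteen-element fixed space centralises its whole preimage. -/
theorem comm_of_fix16 {b : ↥H₀} (h2 : (b : G) * b = 1)
    (h16 : (Finset.univ.filter fun v : V => ρ₀ S ρ b v = v).card = 16) {p : G} (hp : p ∈ J)
    (hv : ρ₀ S ρ b (φ p) = φ p) : Commute (b : G) p := by
  classical
  set f := ρ₀ S ρ b with hf
  have hfl : IsLin f := isLin_of_isom (ρ₀_isom S N b)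
  have hff := invol_image S N h2
  have hfixd : ∀ v, f (vadd v (f v)) = vadd v (f v) := fun v => by
    rw [hfl.add, show f (f v) = v from DFunLike.congr_fun hff v, H50.U6C.vadd_comm]
  -- every fixed vector is a difference
  obtain ⟨u, hu⟩ : ∃ u, vadd u (f u) = φ p := by
    by_contra hno
    push Not at hno
    have hmaps : ∀ v ∈ (Finset.univ : Finset V),
        vadd v (f v) ∈ (Finset.univ.filter fun w : V => f w = w).erase (φ p) := fun v _ =>
      Finset.mem_erase.2 ⟨hno v, Finset.mem_filter.2 ⟨Finset.mem_univ _, hfixd v⟩⟩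
    have hfib : ∀ w ∈ (Finset.univ.filter fun w : V => f w = w).erase (φ p),
        ((Finset.univ : Finset V).filter fun v => vadd v (f v) = w).card ≤ 16 := by
      intro w _
      rcases ((Finset.univ : Finset V).filter fun v => vadd v (f v) = w).eq_empty_or_nonempty with
        e | ⟨x, hx⟩
      · rw [e]; simp
      · rw [← h16]
        refine Finset.card_le_card_of_injOn (fun v => vadd v x) ?_ ?_
        · intro v hv
          rw [Finset.mem_coe, Finset.mem_filter] at hv
          rw [Finset.mem_filter] at hx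
          refine Finset.mem_coe.2 (Finset.mem_filter.2 ⟨Finset.mem_univ _, ?_⟩)
          have e : ∀ y, vadd y (f y) = w → f y = vadd y w := fun y hy => by
            rw [← hy, ← H50.U6C.vadd_assoc, H50.U6C.vadd_self, H50.U6C.vadd_comm, vadd_zero']
          rw [hfl.add, e v hv.2, e x hx.2, vadd_vadd_vadd, H50.U6C.vadd_self, vadd_zero']
        · intro v _ v' _ e
          have := congrArg (fun y => vadd y x) e
          simpa [H50.U6C.vadd_assoc, H50.U6C.vadd_self, vadd_zero'] using this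
    have h := Finset.card_le_mul_card_image_of_maps_to hmaps _ hfib
    rw [Finset.card_erase_of_mem (show φ p ∈ Finset.univ.filter (fun w : V => f w = w) from
      Finset.mem_filter.2 ⟨Finset.mem_univ _, hv⟩), h16,
      Finset.card_univ, Fintype.card_fin] at h
    omega
  obtain ⟨q, hq, rfl⟩ := N.toCore.φ_surj u
  have hbq : (b : G) * q * (b : G)⁻¹ ∈ J := S.conj_mem b (S.le_cent b.2) q hq
  set d := q * ((b : G) * q * (b : G)⁻¹) with hd
  have hdJ : d ∈ J := mul_mem hq hbq
  have eφd : φ d = φ p := by rw [hd, N.toCore.φ_mul _ hq _ hbq, φ_conj S N b hq, hu]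
  have hqv : qv (φ d) = false := by
    have hz : ∀ w, f w = w → herm (vadd (φ q) (f (φ q))) w = 0 := fun w hw => by
      rw [herm_vadd_left]
      have := hfl.herm_eq (φ q) w
      rw [hw] at this
      rw [this, Nat.xor_self]
    rw [eφd, qv, ← hu, hz _ (hfixd _)]
    rfl
  have hdd : d * d = 1 := by
    have := N.toCore.φ_sq d hdJ
    rwa [hqv, if_neg Bool.false_ne_true] at this
  have hbd : Commute (b : G) d := by
    refine commute_iff_conj.2 ?_
    have hbi : (b : G)⁻¹ = b := inv_eq_of_mul_eq_one_right h2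
    have e1 : (b : G) * d * (b : G)⁻¹ = q⁻¹ * d * q := by
      rw [hd, hbi]
      calc (b : G) * (q * ((b : G) * q * b)) * b = ((b : G) * q * b) * q * ((b : G) * b) := by group
        _ = _ := by rw [h2]; group
    have hc : Commute d q := by
      have h3 : φ d = vadd (φ q) (f (φ q)) := by rw [hd, N.toCore.φ_mul _ hq _ hbq, φ_conj S N b hq]
      refine (pol_comm' N hdJ hq).2 ?_
      have e2 : herm (φ q) (φ q) = herm (f (φ q)) (f (φ q)) := (hfl.herm_eq _ _).symm
      have e3 : herm (f (φ q)) (φ q) = herm (φ q) (f (φ q)) := by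
        have := hfl.herm_eq (φ q) (f (φ q))
        rwa [show f (f (φ q)) = φ q from DFunLike.congr_fun hff _] at this
      rw [h3, pol, herm_vadd_left, e3]
      have e4 := herm_conj (φ q) (f (φ q))
      rw [e3] at e4
      exact (show ∀ s < 2, ∀ t < 4, t = fconj t → decide (2 ≤ s ^^^ t) = false by decide) _
        (herm_self_lt _) _ (herm_lt _ _) e4
    rw [e1, mul_assoc, hc.eq, inv_mul_cancel_left]
  obtain ⟨r, hr, rfl⟩ := φ_fibre N.toCore hp hdJ eφd.symm
  exact hbd.mul_right (zsub_comm S (mem_zsub.2 hr) b.2).symm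

/-- An element commuting with the image of `b` has a multiple by the core whose square centralises
`b`, when the fixed space of `b` has sixteen elements. -/
theorem lift16 {b : ↥H₀} (h2 : (b : G) * b = 1)
    (h16 : (Finset.univ.filter fun v : V => ρ₀ S ρ b v = v).card = 16) {g : ↥H₀}
    (hg : ρ₀ S ρ g * ρ₀ S ρ b = ρ₀ S ρ b * ρ₀ S ρ g) :
    ∃ g' : ↥H₀, Commute (g' : G) b ∧ ρ₀ S ρ g' = ρ₀ S ρ g * ρ₀ S ρ g := by
  classical
  set f := ρ₀ S ρ b with hf
  have hfl : IsLin f := isLin_of_isom (ρ₀_isom S N b)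
  have hff := invol_image S N h2
  have hbi : (b : G)⁻¹ = b := inv_eq_of_mul_eq_one_right h2
  have hj : ((b⁻¹ * (g * b * g⁻¹) : ↥H₀) : G) ∈ J := by
    rw [← ρ₀_ker_iff S N, map_mul, map_mul, map_mul, map_inv, map_inv, ← hf, hg,
      mul_inv_cancel_right, inv_mul_cancel]
  set j : G := ((b⁻¹ * (g * b * g⁻¹) : ↥H₀) : G) with hj'
  have hgb : (g : G) * b * (g : G)⁻¹ = b * j := by
    rw [hj']; push_cast; group
  have hcomm : ∀ w, f w = w → pol (φ j) w = false := by
    intro w hw
    obtain ⟨p, hp, rfl⟩ := N.toCore.φ_surj w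
    refine (pol_comm' N hj hp).1 ?_
    have h1 := comm_of_fix16 S N h2 h16 hp hw
    have hgi : (g : G)⁻¹ * p * g ∈ J := by
      have := S.conj_mem (g : G)⁻¹ (inv_mem (S.le_cent g.2)) p hp
      rwa [inv_inv] at this
    have hfix : f (φ ((g : G)⁻¹ * p * g)) = φ ((g : G)⁻¹ * p * g) := by
      apply (ρ₀ S ρ g).injective
      have e : ρ₀ S ρ g (φ ((g : G)⁻¹ * p * g)) = φ p := by
        rw [← φ_conj S N g hgi]
        exact congrArg φ (by group)
      rw [show ρ₀ S ρ g (f (φ ((g : G)⁻¹ * p * g))) = f (ρ₀ S ρ g (φ ((g : G)⁻¹ * p * g))) from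
        DFunLike.congr_fun hg _, e, hw]
    have h3 : Commute ((g : G) * b * (g : G)⁻¹) p := by
      have := (comm_of_fix16 S N h2 h16 hgi hfix).map (MulAut.conj (g : G)).toMonoidHom
      simpa [mul_assoc] using this
    rw [hgb] at h3
    have := (h1.inv_left).mul_left h3
    rwa [inv_mul_cancel_left] at this
  -- so the image of `j` is fixed, hence a difference
  have hjfix : f (φ j) = φ j := by
    have key : ∀ v, pol (vadd (φ j) (f (φ j))) v = false := fun v => by
      have e : pol (f (φ j)) v = pol (φ j) (f v) := by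
        have h := hfl.herm_eq (φ j) (f v)
        rw [show f (f v) = v from DFunLike.congr_fun hff v] at h
        simp only [pol, h]
      rw [H39.U6E.pol_vadd_left, e, ← H39.U6E.pol_vadd_right]
      exact hcomm _ (by rw [hfl.add, show f (f v) = v from DFunLike.congr_fun hff v,
        H50.U6C.vadd_comm])
    exact (H33.U6E.vadd_eq_zero
      (H39.U6E.pol_nondeg_bvec _ fun i => key (H39.U6E.bvec i))).symm
  obtain ⟨u, hu⟩ : ∃ u, vadd u (f u) = φ j := by
    by_contra hno
    push Not at hno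
    have hmaps : ∀ v ∈ (Finset.univ : Finset V),
        vadd v (f v) ∈ (Finset.univ.filter fun w : V => f w = w).erase (φ j) := fun v _ =>
      Finset.mem_erase.2 ⟨hno v, Finset.mem_filter.2 ⟨Finset.mem_univ _, by
        rw [hfl.add, show f (f v) = v from DFunLike.congr_fun hff v, H50.U6C.vadd_comm]⟩⟩
    have hfib : ∀ w ∈ (Finset.univ.filter fun w : V => f w = w).erase (φ j),
        ((Finset.univ : Finset V).filter fun v => vadd v (f v) = w).card ≤ 16 := by
      intro w _
      rcases ((Finset.univ : Finset V).filter fun v => vadd v (f v) = w).eq_empty_or_nonempty with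
        e | ⟨x, hx⟩
      · rw [e]; simp
      · rw [← h16]
        refine Finset.card_le_card_of_injOn (fun v => vadd v x) ?_ ?_
        · intro v hv
          rw [Finset.mem_coe, Finset.mem_filter] at hv
          rw [Finset.mem_filter] at hx
          refine Finset.mem_coe.2 (Finset.mem_filter.2 ⟨Finset.mem_univ _, ?_⟩)
          have e : ∀ y, vadd y (f y) = w → f y = vadd y w := fun y hy => by
            rw [← hy, ← H50.U6C.vadd_assoc, H50.U6C.vadd_self, H50.U6C.vadd_comm, vadd_zero']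
          rw [hfl.add, e v hv.2, e x hx.2, vadd_vadd_vadd, H50.U6C.vadd_self, vadd_zero']
        · intro v _ v' _ e
          have := congrArg (fun y => vadd y x) e
          simpa [H50.U6C.vadd_assoc, H50.U6C.vadd_self, vadd_zero'] using this
    have h := Finset.card_le_mul_card_image_of_maps_to hmaps _ hfib
    rw [Finset.card_erase_of_mem (show φ j ∈ Finset.univ.filter (fun w : V => f w = w) from
      Finset.mem_filter.2 ⟨Finset.mem_univ _, hjfix⟩), h16,
      Finset.card_univ, Fintype.card_fin] at h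
    omega
  obtain ⟨q, hq, rfl⟩ := N.toCore.φ_surj u
  have hbq : (b : G) * q * (b : G)⁻¹ ∈ J := S.conj_mem b (S.le_cent b.2) q hq
  obtain ⟨r, hr, er⟩ := φ_fibre N.toCore hj (mul_mem hbq (inv_mem hq)) (by
    rw [N.toCore.φ_mul _ hbq _ (inv_mem hq), φ_inv N.toCore hq, φ_conj S N b hq,
      H50.U6C.vadd_comm, hu])
  have hr' : r ∈ zsub S := mem_zsub.2 hr
  set g₁ : ↥H₀ := ⟨q⁻¹, inv_mem (S.J_le hq)⟩ * g with hg₁
  have hg1 : (g₁ : G) * b * (g₁ : G)⁻¹ = b * r := by
    have hrq : Commute r q := zsub_comm S hr' (S.J_le hq)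
    rw [hg₁]; push_cast
    calc (q⁻¹ * g : G) * b * (q⁻¹ * g)⁻¹ = q⁻¹ * ((g : G) * b * (g : G)⁻¹) * q := by group
      _ = q⁻¹ * (b * ((b : G) * q * (b : G)⁻¹ * q⁻¹ * r)) * q := by rw [hgb, er]
      _ = q⁻¹ * ((b : G) * b) * q * (b : G)⁻¹ * q⁻¹ * (r * q) := by group
      _ = b * r := by rw [h2, hrq.eq, hbi]; group
  refine ⟨g₁ * g₁, commute_iff_conj.2 ?_, ?_⟩
  · have hrg : Commute r (g₁ : G) := zsub_comm S hr' g₁.2
    have hr2 : r * r = 1 := by
      have hzc : Commute z a := (mem_cent_iff.1 (J_le_cent S S.a_mem)).symm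
      rcases hr with rfl | rfl | rfl | rfl
      · simp
      · exact S.sq
      · exact S.a_sq
      · rw [show a * z * (a * z) = a * (z * a) * z by group, hzc.eq,
          show a * (a * z) * z = (a * a) * (z * z) by group, S.sq, S.a_sq, one_mul]
    push_cast
    calc (g₁ : G) * g₁ * b * ((g₁ : G) * g₁)⁻¹ =
        (g₁ : G) * ((g₁ : G) * b * (g₁ : G)⁻¹) * (g₁ : G)⁻¹ := by group
      _ = (g₁ : G) * b * (r * (g₁ : G)⁻¹) := by rw [hg1]; group
      _ = (g₁ : G) * b * (g₁ : G)⁻¹ * r := by rw [hrg.inv_right.eq]; group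
      _ = b := by rw [hg1, mul_assoc, hr2, mul_one]
  · rw [map_mul, hg₁, map_mul, (ρ₀_ker_iff S N ⟨q⁻¹, inv_mem (S.J_le hq)⟩).2 (inv_mem hq),
      one_mul]

end H16.Fi22C
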