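import Cfsg.Agent.H16.Fi22C.Lifts
import Cfsg.Agent.H38.Fi22C.NonConj
import Cfsg.Agent.H38.U6C.Adapt
import Cfsg.Agent.H38.U6C.Main
import Cfsg.Agent.H55.U6C.NatWcj
import Cfsg.Agent.H82.U6Loc.Final
import Cfsg.Agent.H72.Fi22C.LiveSwap

/-!
A live side in the case without swap: conjugates of `z` under the centraliser of `a` are read in the
unitary quotient, where they are transvections centralising the preimage of their hyperplane.
-/

set_option autoImplicit false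
set_option maxRecDepth 100000
set_option linter.unusedSectionVars false

namespace H16.Fi22C

open H38.U6C H50.U6C H2.U6E H39.Fi22C

theorem tv_fix_card : ∀ i : Fin 45,
    (Finset.univ.filter fun v : V => tvFun i v = v).card = 64 := by decide +kernel

variable {G : Type*} [Group G] [Finite G] {F : Type*} [Field F] [Fintype F] {z a : G}
  {J H₀ : Subgroup G} {π : ↥H₀ →* Cfsg.PSp 2 F} {φ : G → V}
  {ρ : ↥(Subgroup.centralizer ({z} : Set G)) →* Equiv.Perm V}

/-- What is needed of the natural data over an involution: the facts about a live side. -/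
structure LiveFacts (z a : G) (J H₀ : Subgroup G) (φ : G → V)
    (ρ : ↥(Subgroup.centralizer ({z} : Set G)) →* Equiv.Perm V) : Prop where
  wcj : ∀ k : G, Commute k a → k * z * k⁻¹ ∈ J → k * z * k⁻¹ = z
  tvec : ∀ k : G, Commute k a → Commute (k * z * k⁻¹) z → k * z * k⁻¹ ≠ z →
    k * z * k⁻¹ ∈ H₀ ∧ ∀ hx : k * z * k⁻¹ ∈ Subgroup.centralizer ({z} : Set G),
      (Finset.univ.filter fun v : V => ρ ⟨_, hx⟩ v = v).card = 64 ∧
      ∀ p ∈ J, ρ ⟨_, hx⟩ (φ p) = φ p →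
        k * z * k⁻¹ * p * (k * z * k⁻¹)⁻¹ = p ∨ k * z * k⁻¹ * p * (k * z * k⁻¹)⁻¹ = p * a
  moved : ∃ k : G, Commute k a ∧ Commute (k * z * k⁻¹) z ∧ k * z * k⁻¹ ≠ z

variable (S : Setup3 z a J H₀ π) (N : NatJ z a J H₀ φ ρ)

include S N

/-- The facts about a live side. -/
theorem liveFacts {K : Type*} [Field K] [Fintype K] (hK : Fintype.card K = 4) (hns : NoSwap z a)
    (hl : LiveN K z a H₀) : LiveFacts z a J H₀ φ ρ := by
  classical
  obtain ⟨X₀, hXle, hidx, hXC, f, hf, hker⟩ := hl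
  have hHX : H₀ ≤ X₀ := hXC.symm.le.trans inf_le_left
  have hzX : z ∈ X₀ := hHX (S.J_le S.z_mem)
  have haX : a ∈ X₀ := hHX (S.J_le S.a_mem)
  have hnza : ∀ {g : G}, g * z * g⁻¹ ≠ z * a := fun {g} e => by
    refine H38.Fi22C.not_conj_zaz S g ?_
    rw [e, (H38.Fi22C.za_comm S).eq]
  have heq : ∀ {u v : ↥X₀}, f u = f v → (u : G) = v ∨ (u : G) = v * a := by
    intro u v e
    have h : f (v⁻¹ * u) = 1 := by rw [map_mul, map_inv, e, inv_mul_cancel]
    rcases (hker _).1 h with h' | h'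
    · exact Or.inl (inv_mul_eq_one.1 h').symm
    · exact Or.inr (inv_mul_eq_iff_eq_mul.1 h')
  set z' := f ⟨z, hzX⟩ with hz'
  have hz'1 : z' ≠ 1 := fun e => by
    rcases (hker _).1 e with h | h
    · exact S.ne_one h
    · exact S.a_out.2 h.symm
  have hcent : ∀ u : ↥X₀, Commute (f u) z' ↔ (u : G) ∈ H₀ := by
    intro u
    constructor
    · intro hc
      have e : f (u * ⟨z, hzX⟩ * u⁻¹) = f ⟨z, hzX⟩ := by
        rw [map_mul, map_mul, map_inv]; exact commute_iff_conj.1 hc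
      rcases heq e with h | h
      · exact hXC ▸ ⟨u.2, mem_cent_iff.2 (commute_iff_conj.2 h)⟩
      · exact absurd h hnza
    · intro hu
      have hc : Commute (u : G) z := mem_cent_iff.1 (S.le_cent hu)
      exact (show Commute u ⟨z, hzX⟩ from Subtype.ext hc.eq).map f
  let sec : Cfsg.PSU 6 K 2 → ↥X₀ := Function.surjInv hf
  have hsec : ∀ q, f (sec q) = q := Function.surjInv_eq hf
  have hφa : φ a = 0 := (N.toCore.φ_ker a S.a_mem).2 (Or.inr (Or.inr (Or.inl rfl)))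
  have hsecJ : ∀ {u : ↥X₀}, (u : G) ∈ J →
      (sec (f u) : G) ∈ J ∧ φ (sec (f u) : G) = φ (u : G) := by
    intro u hu
    rcases heq (hsec (f u)) with h | h <;> rw [h]
    · exact ⟨hu, rfl⟩
    · exact ⟨mul_mem hu S.a_mem, by rw [N.toCore.φ_mul _ hu _ S.a_mem, hφa, vadd_zero']⟩
  set φ' : Cfsg.PSU 6 K 2 → V := fun q => φ (sec q : G) with hφ'
  set J' : Subgroup (Cfsg.PSU 6 K 2) := (J.subgroupOf X₀).map f with hJ'
  have hmemJ' : ∀ {u : ↥X₀}, f u ∈ J' ↔ (u : G) ∈ J := by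
    intro u
    refine ⟨?_, fun h => ⟨u, h, rfl⟩⟩
    rintro ⟨v, hv, e⟩
    rcases heq e.symm with h | h <;> rw [h]
    · exact hv
    · exact mul_mem hv S.a_mem
  have hsecH : ∀ q : ↥(Subgroup.centralizer ({z'} : Set (Cfsg.PSU 6 K 2))),
      (sec q.1 : G) ∈ H₀ := fun q =>
    (hcent _).1 (by rw [hsec]; exact mem_cent_iff.1 q.2)
  have hρ₀a : ρ₀ S ρ ⟨a, S.J_le S.a_mem⟩ = 1 := (ρ₀_ker_iff S N _).2 S.a_mem
  let ρ' : ↥(Subgroup.centralizer ({z'} : Set (Cfsg.PSU 6 K 2))) →* Equiv.Perm V :=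
    MonoidHom.mk' (fun q => ρ₀ S ρ ⟨_, hsecH q⟩) (by
      intro q q'
      rw [← map_mul]
      have e : f (sec (q.1 * q'.1)) = f (sec q.1 * sec q'.1) := by
        rw [map_mul, hsec, hsec, hsec]
      rcases heq e with h | h
      · exact congrArg _ (Subtype.ext h)
      · rw [show (⟨_, hsecH (q * q')⟩ : ↥H₀) =
          (⟨_, hsecH q⟩ * ⟨_, hsecH q'⟩) * ⟨a, S.J_le S.a_mem⟩ from Subtype.ext h,
          map_mul, hρ₀a, mul_one])
  have hρ' : ∀ (u : ↥X₀) (hu : (u : G) ∈ H₀),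
      ρ' ⟨f u, mem_cent_iff.2 ((hcent u).2 hu)⟩ = ρ₀ S ρ ⟨u, hu⟩ := by
    intro u hu
    rcases heq (hsec (f u)) with h | h
    · show ρ₀ S ρ _ = _
      exact congrArg (ρ₀ S ρ) (Subtype.ext h)
    · show ρ₀ S ρ _ = _
      rw [show (⟨(sec (f u) : G), _⟩ : ↥H₀) = ⟨u, hu⟩ * ⟨a, S.J_le S.a_mem⟩ from Subtype.ext h,
        map_mul, hρ₀a, mul_one]
  have hJX : ∀ {p : G}, p ∈ J → p ∈ X₀ := fun hp => hHX (S.J_le hp)
  have hker2 : Nat.card ↥(f.comp (J.subgroupOf X₀).subtype).ker = 2 := by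
    rw [← Subgroup.card_map_of_injective (f := X₀.subtype.comp (J.subgroupOf X₀).subtype)
      (X₀.subtype_injective.comp (J.subgroupOf X₀).subtype_injective), ← SetLike.coe_sort_coe,
      Nat.card_coe_set_eq]
    rw [show (((f.comp (J.subgroupOf X₀).subtype).ker.map
        (X₀.subtype.comp (J.subgroupOf X₀).subtype) : Subgroup G) : Set G) = {1, a} by
      ext g
      constructor
      · rintro ⟨u, hu, rfl⟩
        exact (hker u.1).1 (MonoidHom.mem_ker.1 hu)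
      · intro hg
        have hgJ : g ∈ J := by
          rcases hg with rfl | rfl
          exacts [one_mem _, S.a_mem]
        exact ⟨⟨⟨g, hJX hgJ⟩, hgJ⟩, MonoidHom.mem_ker.2 ((hker ⟨g, hJX hgJ⟩).2 hg), rfl⟩]
    exact Set.ncard_pair S.a_out.1.symm
  have hN : Nat4 z' J' φ' ρ' := by
    refine
      { sq := ?_
        ne_one := hz'1
        le_cent := ?_
        z_mem := hmemJ'.2 S.z_mem
        card_J := ?_
        conj_mem := ?_
        φ_mul := ?_
        φ_surj := ?_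
        φ_ker := ?_
        φ_sq := ?_
        φ_comm := ?_
        ρ_φ := ?_
        ρ_ker := ?_
        ρ_range := ?_
        card_cent := ?_ }
    · rw [hz', ← map_mul, show (⟨z, hzX⟩ : ↥X₀) * ⟨z, hzX⟩ = 1 from Subtype.ext S.sq, map_one]
    · rintro _ ⟨u, hu, rfl⟩
      exact mem_cent_iff.2 ((hcent u).2 (S.J_le hu))
    · have h := card_hom (f.comp (J.subgroupOf X₀).subtype)
      have hr : (f.comp (J.subgroupOf X₀).subtype).range = J' := by
        rw [MonoidHom.range_comp, Subgroup.range_subtype]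
      rw [hr, hker2, Nat.card_congr (Subgroup.subgroupOfEquivOfLe fun p hp => hJX hp).toEquiv,
        S.card_J] at h
      omega
    · intro q hq p hp
      obtain ⟨u, rfl⟩ := hf q
      obtain ⟨v, hv, rfl⟩ := hp
      have huH := (hcent u).1 (mem_cent_iff.1 hq)
      rw [← map_inv, ← map_mul, ← map_mul, hmemJ']
      exact S.conj_mem _ (S.le_cent huH) _ hv
    · rintro _ ⟨u, (hu : (u : G) ∈ J), rfl⟩ _ ⟨v, (hv : (v : G) ∈ J), rfl⟩
      show φ (sec (f u * f v) : G) = vadd (φ (sec (f u) : G)) (φ (sec (f v) : G))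
      rw [← map_mul, (hsecJ hu).2, (hsecJ hv).2, (hsecJ (mul_mem hu hv : ((u * v : ↥X₀) : G) ∈ J)).2,
        Subgroup.coe_mul, N.toCore.φ_mul _ hu _ hv]
    · intro v
      obtain ⟨p, hp, rfl⟩ := N.toCore.φ_surj v
      exact ⟨f ⟨p, hJX hp⟩, hmemJ'.2 hp, (hsecJ (u := ⟨p, hJX hp⟩) hp).2⟩
    · rintro _ ⟨u, (hu : (u : G) ∈ J), rfl⟩
      show φ (sec (f u) : G) = 0 ↔ _
      rw [(hsecJ hu).2, N.toCore.φ_ker _ hu, (show f u = 1 ↔ _ from hker u)]
      constructor
      · rintro (h | h | h | h)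
        · exact Or.inl (Or.inl h)
        · exact Or.inr (congrArg f (Subtype.ext h : u = ⟨z, hzX⟩))
        · exact Or.inl (Or.inr h)
        · refine Or.inr ?_
          rw [show u = ⟨a, haX⟩ * ⟨z, hzX⟩ from Subtype.ext h, map_mul,
            (hker ⟨a, haX⟩).2 (Or.inr rfl), one_mul]
      · rintro ((h | h) | h)
        · exact Or.inl h
        · exact Or.inr (Or.inr (Or.inl h))
        · rcases heq (h : f u = f ⟨z, hzX⟩) with h' | h'
          · exact Or.inr (Or.inl h')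
          · exact Or.inr (Or.inr (Or.inr (h'.trans (H38.Fi22C.za_comm S).eq)))
    · rintro _ ⟨u, (hu : (u : G) ∈ J), rfl⟩
      show _ = if qv (φ (sec (f u) : G)) then z' else 1
      rw [(hsecJ hu).2, ← map_mul]
      have h := N.toCore.φ_sq _ hu
      by_cases hq : qv (φ (u : G)) = true
      · rw [hq, if_pos rfl] at h ⊢
        exact congrArg f (Subtype.ext h)
      · rw [if_neg hq] at h ⊢
        rw [show u * u = 1 from Subtype.ext h, map_one]
    · rintro _ ⟨u, (hu : (u : G) ∈ J), rfl⟩ _ ⟨v, (hv : (v : G) ∈ J), rfl⟩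
      show _ = _ * if pol (φ (sec (f u) : G)) (φ (sec (f v) : G)) then z' else 1
      rw [(hsecJ hu).2, (hsecJ hv).2, ← map_mul, ← map_mul]
      have h := N.toCore.φ_comm _ hu _ hv
      by_cases hq : pol (φ (u : G)) (φ (v : G)) = true
      · rw [hq, if_pos rfl] at h ⊢
        rw [hz', ← map_mul]
        exact congrArg f (Subtype.ext h)
      · rw [if_neg hq, mul_one] at h ⊢
        exact congrArg f (Subtype.ext h)
    · rintro ⟨q, hq⟩ p ⟨v, hv, rfl⟩
      obtain ⟨u, rfl⟩ := hf q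
      have huH := (hcent u).1 (mem_cent_iff.1 hq)
      show φ (sec (f u * f v * (f u)⁻¹) : G) = ρ' ⟨f u, hq⟩ (φ (sec (f v) : G))
      have hm : ((u * v * u⁻¹ : ↥X₀) : G) ∈ J := S.conj_mem _ (S.le_cent huH) _ hv
      rw [show f u * f v * (f u)⁻¹ = f (u * v * u⁻¹) by rw [map_mul, map_mul, map_inv],
        (hsecJ hm).2, (hsecJ hv).2, hρ' u huH]
      exact φ_conj S N ⟨u, huH⟩ hv
    · rintro ⟨q, hq⟩
      obtain ⟨u, rfl⟩ := hf q
      have huH := (hcent u).1 (mem_cent_iff.1 hq)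
      rw [show ρ' ⟨f u, hq⟩ = ρ₀ S ρ ⟨u, huH⟩ from hρ' u huH, ρ₀_ker_iff S N]
      exact hmemJ'.symm
    · rw [← ρ₀_range S N]
      ext γ
      constructor
      · rintro ⟨q, rfl⟩
        exact ⟨_, rfl⟩
      · rintro ⟨h, rfl⟩
        exact ⟨_, hρ' ⟨h, hHX h.2⟩ h.2⟩
    · have h := card_hom (f.comp (H₀.subgroupOf X₀).subtype)
      have hr : (f.comp (H₀.subgroupOf X₀).subtype).range = Subgroup.centralizer ({z'} : Set _) := by
        ext q
        constructor
        · rintro ⟨u, rfl⟩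
          exact mem_cent_iff.2 ((hcent u.1).2 u.2)
        · intro hq
          obtain ⟨u, rfl⟩ := hf q
          exact ⟨⟨u, (hcent u).1 (mem_cent_iff.1 hq)⟩, rfl⟩
      have hk : Nat.card ↥(f.comp (H₀.subgroupOf X₀).subtype).ker = 2 := by
        rw [← Subgroup.card_map_of_injective (f := X₀.subtype.comp (H₀.subgroupOf X₀).subtype)
          (X₀.subtype_injective.comp (H₀.subgroupOf X₀).subtype_injective), ← SetLike.coe_sort_coe,
          Nat.card_coe_set_eq]
        rw [show (((f.comp (H₀.subgroupOf X₀).subtype).ker.map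
            (X₀.subtype.comp (H₀.subgroupOf X₀).subtype) : Subgroup G) : Set G) = {1, a} by
          ext g
          constructor
          · rintro ⟨u, hu, rfl⟩
            exact (hker u.1).1 (MonoidHom.mem_ker.1 hu)
          · intro hg
            have hgH : g ∈ H₀ := by
              rcases hg with rfl | rfl
              exacts [one_mem _, S.J_le S.a_mem]
            exact ⟨⟨⟨g, hHX hgH⟩, hgH⟩, MonoidHom.mem_ker.2 ((hker ⟨g, hHX hgH⟩).2 hg), rfl⟩]
        exact Set.ncard_pair S.a_out.1.symm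
      rw [hr, hk, Nat.card_congr (Subgroup.subgroupOfEquivOfLe hHX).toEquiv, S.card_H₀] at h
      omega
  have hw' : WCJ z' J' := H55.U6C.wcj hN
  -- conjugation by the centraliser of `a` happens inside `X₀`
  have hnorm : (X₀.subgroupOf (Subgroup.centralizer ({a} : Set G))).Normal :=
    Subgroup.normal_of_index_eq_two hidx
  have hinX : ∀ k : G, Commute k a → ∃ u : ↥X₀, (u : G) * z * (u : G)⁻¹ = k * z * k⁻¹ := by
    intro k hk
    by_cases hkX : k ∈ X₀
    · exact ⟨⟨k, hkX⟩, rfl⟩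
    obtain ⟨o, hoC, hoH⟩ : ∃ o ∈ Subgroup.centralizer ({z} : Set G), o ∉ H₀ := by
      by_contra! hc
      have := Subgroup.card_le_of_le (show Subgroup.centralizer ({z} : Set G) ≤ H₀ from hc)
      rw [S.card_cent, S.card_H₀] at this
      norm_num at this
    have hoA : o ∈ Subgroup.centralizer ({a} : Set G) := mem_cent_iff.2 (hns o hoC)
    have hkA : k ∈ Subgroup.centralizer ({a} : Set G) := mem_cent_iff.2 hk
    have hm := (Subgroup.mul_mem_iff_of_index_two hidx (a := ⟨k, hkA⟩) (b := ⟨o, hoA⟩)).2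
      ⟨fun h => absurd (show k ∈ X₀ from h) hkX,
        fun h => absurd (show o ∈ H₀ from hXC ▸ ⟨(show o ∈ X₀ from h), hoC⟩) hoH⟩
    refine ⟨⟨k * o, hm⟩, ?_⟩
    show k * o * z * (k * o)⁻¹ = k * z * k⁻¹
    rw [show k * o * z * (k * o)⁻¹ = k * (o * z * o⁻¹) * k⁻¹ by group,
      commute_iff_conj.1 (mem_cent_iff.1 hoC)]
  have hzz : ∀ {u : ↥X₀}, f (u * ⟨z, hzX⟩ * u⁻¹) = z' → (u : G) * z * (u : G)⁻¹ = z := by
    intro u e
    rcases heq (e : f (u * ⟨z, hzX⟩ * u⁻¹) = f ⟨z, hzX⟩) with h | h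
    · exact h
    · exact absurd h hnza
  refine ⟨fun k hk hJk => ?_, fun k hk hc hne => ?_, ?_⟩
  · obtain ⟨u, hu⟩ := hinX k hk
    rw [← hu] at hJk ⊢
    refine hzz (hw' _ (hmemJ'.2 hJk) (isConj_iff.2 ⟨f u, ?_⟩))
    rw [hz', map_mul, map_mul, map_inv]
  · obtain ⟨u, hu⟩ := hinX k hk
    have hxX : k * z * k⁻¹ ∈ X₀ := hu ▸ (u * ⟨z, hzX⟩ * u⁻¹).2
    have hxC : k * z * k⁻¹ ∈ Subgroup.centralizer ({z} : Set G) := mem_cent_iff.2 hc
    have hxH : k * z * k⁻¹ ∈ H₀ := hXC ▸ ⟨hxX, hxC⟩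
    refine ⟨hxH, fun _ => ?_⟩
    set x := k * z * k⁻¹ with hx
    let D := hN.toLocal hw'
    have hx'C : f ⟨x, hxX⟩ ∈ Subgroup.centralizer ({z'} : Set _) :=
      mem_cent_iff.2 ((hcent ⟨x, hxX⟩).2 hxH)
    have hx'z : IsConj z' (f ⟨x, hxX⟩) := by
      refine isConj_iff.2 ⟨f u, ?_⟩
      rw [hz', ← map_inv, ← map_mul, ← map_mul]
      exact congrArg f (Subtype.ext hu)
    have hx'ne : f ⟨x, hxX⟩ ≠ z' := fun e => by
      rcases heq (e : f ⟨x, hxX⟩ = f ⟨z, hzX⟩) with h | h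
      · exact hne h
      · exact hnza (g := k) h
    obtain ⟨i, hi, he⟩ := D.act_conjugate hx'C hx'z hx'ne
    have hcols : cols (ρ' ⟨_, hx'C⟩) = H82.U6Loc.tvA i := by
      rw [← he]
      show _ = dite _ _ _
      rw [dif_pos hx'C]
    have hρx : ρ' ⟨_, hx'C⟩ = ρ ⟨x, hxC⟩ := hρ' ⟨x, hxX⟩ hxH
    have htv : ρ ⟨x, hxC⟩ = tv ⟨i, hi⟩ := by
      refine Equiv.ext fun v => Fin.ext ?_
      rw [← hρx, ← ap_cols (hN.isAdd _) v, hcols, ← ap_cols (hN.tv_isAdd _) v, tv_cols]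
    refine ⟨?_, fun p hp hfixp => ?_⟩
    · rw [htv]
      exact tv_fix_card ⟨i, hi⟩
    · have hp' : f ⟨p, hJX hp⟩ ∈ D.fib (H82.U6Loc.ppA i) := by
        refine ⟨hmemJ'.2 hp, ?_⟩
        show (φ' (f ⟨p, hJX hp⟩)).val ∈ _
        rw [show φ' (f ⟨p, hJX hp⟩) = φ p from (hsecJ (u := ⟨p, hJX hp⟩) hp).2]
        refine ((D.tv_facts hi).2.2.2 _ (φ p).isLt).2.1 ?_
        rw [← hcols, ap_cols (hN.isAdd _), hρx, hfixp]
      have hcomm := D.cent_pp hi (x := f ⟨x, hxX⟩) ⟨hx'C, hx'z, he⟩ _ hp'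
      have e : f (⟨x, hxX⟩ * ⟨p, hJX hp⟩ * ⟨x, hxX⟩⁻¹) = f ⟨p, hJX hp⟩ := by
        rw [map_mul, map_mul, map_inv, hcomm, mul_inv_cancel_right]
      exact heq e
  · by_contra hno
    push Not at hno
    have hwc : WC z' := by
      intro q hq hzq
      obtain ⟨w, hw⟩ := isConj_iff.1 hzq
      obtain ⟨u, rfl⟩ := hf w
      have e : f (u * ⟨z, hzX⟩ * u⁻¹) = q := by rw [map_mul, map_mul, map_inv]; exact hw
      have hH : ((u * ⟨z, hzX⟩ * u⁻¹ : ↥X₀) : G) ∈ H₀ :=
        (hcent _).1 (by rw [e]; exact mem_cent_iff.1 hq)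
      have h := hno (u : G) (mem_cent_iff.1 (hXle u.2)) (mem_cent_iff.1 (S.le_cent hH))
      rw [← e, show u * ⟨z, hzX⟩ * u⁻¹ = ⟨z, hzX⟩ from Subtype.ext h]
    haveI := H72.Fi22C.psu_six_simple hK
    haveI : Fact (Nat.Prime 2) := ⟨Nat.prime_two⟩
    have hord : orderOf z' = 2 := orderOf_eq_prime (by rw [pow_two, hN.sq]) hz'1
    have htop := mul_core_of_wc hord hwc
    have hcard := hN.card_cent
    haveI : (Cfsg.oddCore (Cfsg.PSU 6 K 2)).Normal := H1.pPrimeCore_normal' 2 _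
    have hodd : Odd (Nat.card (Cfsg.oddCore (Cfsg.PSU 6 K 2))) :=
      Nat.coprime_two_right.1 (H1.card_pPrimeCore_coprime 2 (Cfsg.PSU 6 K 2))
    rcases (inferInstance : (Cfsg.oddCore (Cfsg.PSU 6 K 2)).Normal).eq_bot_or_eq_top with h | h
    · rw [h, sup_bot_eq] at htop
      have hz'c : z' ∈ Subgroup.center (Cfsg.PSU 6 K 2) := by
        refine Subgroup.mem_center_iff.2 fun g => ?_
        have hg : g ∈ Subgroup.centralizer ({z'} : Set _) := htop ▸ Subgroup.mem_top g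
        exact (mem_cent_iff.1 hg).eq
      rw [H72.Fi22C.psu_six_center hK] at hz'c
      exact hz'1 (Subgroup.mem_bot.1 hz'c)
    · rw [h, Subgroup.card_top] at hodd
      have : 2 ∣ Nat.card (Cfsg.PSU 6 K 2) := by
        have h2 := orderOf_dvd_natCard z'
        rw [hord] at h2
        exact h2
      exact Nat.not_even_iff_odd.2 hodd (even_iff_two_dvd.2 this)

end H16.Fi22C
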