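import Cfsg.Agent.H16.Fi22C.NoSwapSide

/-!
Without swap and with `z` isolated in `C(az)`, every conjugate of `z` in the centraliser is moved by
an element fixing `a`.
-/

set_option autoImplicit false

namespace H16.Fi22C

open H39.Fi22C H55.Fi22C

variable {G : Type*} [Group G] [Finite G] {F : Type*} [Field F] [Fintype F] {z a : G}
  {J H₀ : Subgroup G} {π : ↥H₀ →* Cfsg.PSp 2 F} {φ : G → H38.U6C.V}
  {ρ : ↥(Subgroup.centralizer ({z} : Set G)) →* Equiv.Perm H38.U6C.V}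

/-- The elements moving `z` within the centraliser fix `a`. -/
theorem noBad (S : Setup3 z a J H₀ π) (N : NatJ z a J H₀ φ ρ) (hn : NoSwap z a)
    (hw : ∀ p ∈ J, IsConj z p → p = z)
    (_hJ : ∀ k e, (e = a ∨ e = a * z) → k * e * k⁻¹ ∈ J → k * e * k⁻¹ = e)
    (hd : ∀ g, Commute g (a * z) → Commute (g * z * g⁻¹) z → g * z * g⁻¹ = z)
    {k : G} (hc : Commute (k * z * k⁻¹) z) (_hne : k * z * k⁻¹ ≠ z) : k * a * k⁻¹ = a := by
  have h : Hyp z a J H₀ π φ ρ := ⟨S, N, hn⟩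
  have hA : Commute (k * a * k⁻¹) z :=
    (h.centre_unique (k := k) hc.symm (Or.inr (Or.inr (Or.inl rfl)))).symm
  by_contra hka
  obtain ⟨k', h1, h2, h3⟩ := side_of h
    (fun e _ k' _ hm => hw _ hm (isConj_iff.2 ⟨k', rfl⟩))
    (fun _ ⟨k', h1, h2, h3⟩ => h3 (hd k' h1 h2)) (Or.inl rfl) hA hka
  exact h3 (hd k' h1 h2)

end H16.Fi22C
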