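import Cfsg.Agent.H16.Fi22C.NoSwapSide
import Cfsg.Agent.H38.Fi22C.Dich
import Cfsg.Agent.H38.Fi22C.Assembly

/-!
The two statements of the case without swap: weak closure when both sides are dead, isolation of `a`
when its side is live.
-/

set_option autoImplicit false
set_option maxRecDepth 100000
set_option linter.unusedSectionVars false

namespace H16.Fi22C

open H38.U6C H50.U6C H2.U6E H39.Fi22C H33.U6E.Cert
open H55.Fi22C (Hyp Typ)

variable {G : Type*} [Group G] [Finite G] {F : Type*} [Field F] [Fintype F] {z a : G}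
  {J H₀ : Subgroup G} {π : ↥H₀ →* Cfsg.PSp 2 F} {φ : G → V}
  {ρ : ↥(Subgroup.centralizer ({z} : Set G)) →* Equiv.Perm V}

theorem side_dead {e : G} (hd : Dead z e) : ¬ Side z e :=
  fun ⟨k, hk, hc, hne⟩ => hne (hd.1 k hk hc)

/-- An element of a side at `v0`, centralising the preimage of its hyperplane modulo `e`. -/
structure AtV0 (S : Setup3 z a J H₀ π) (ρ : ↥(Subgroup.centralizer ({z} : Set G)) →* Equiv.Perm V)
    (φ : G → V) (e k : G) : Prop where
  comm : Commute k e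
  mem : k * z * k⁻¹ ∈ H₀
  notJ : k * z * k⁻¹ ∉ J
  fix : ∀ v, ρ₀ S ρ ⟨_, mem⟩ v = v ↔ herm v0 v = 0
  card : (Finset.univ.filter fun v : V => ρ₀ S ρ ⟨_, mem⟩ v = v).card = 64
  centr : ∀ p ∈ J, herm v0 (φ p) = 0 → Commute (k * z * k⁻¹) p

variable (h : Hyp z a J H₀ π φ ρ)
include h

/-- A side gives an element at `v0`. -/
theorem exists_atV0 {e : G} (he : e = a ∨ e = a * z) (L : LiveFacts z e J H₀ φ ρ)
    (hs : Side z e) : ∃ k, AtV0 h.setup ρ φ e k := by
  classical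
  have S := h.setup
  have N := h.nat
  obtain ⟨k, hk, hc, hne⟩ := hs
  obtain ⟨hxH, hxprop⟩ := L.tvec k hk hc hne
  obtain ⟨h64, hmod⟩ := hxprop (mem_cent_iff.2 hc)
  set x : ↥H₀ := ⟨k * z * k⁻¹, hxH⟩ with hx
  have h64' : (Finset.univ.filter fun v : V => ρ₀ S ρ x v = v).card = 64 := h64
  have x2 : (x : G) * x = 1 := conj_sq h k S.sq
  have hfl : IsLin (ρ₀ S ρ x) := isLin_of_isom (ρ₀_isom S N x)
  obtain ⟨d, hd0, hdq, -, hperp⟩ := axis hfl (invol_image S N x2) h64'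
  obtain ⟨γ, hγ, eγ⟩ := exists_to_v0 hdq hd0
  rw [← ρ₀_range S N] at hγ
  obtain ⟨g, rfl⟩ := hγ
  have hgl := isLin_of_isom (ρ₀_isom S N g)
  have hgz : Commute (g : G) z := mem_cent_iff.1 (S.le_cent g.2)
  have hge : Commute (g : G) e := h.inW_comm (h.typ_inW (typ_of h he)) hgz
  have hxg : (g : G) * k * z * ((g : G) * k)⁻¹ = ((g * x * g⁻¹ : ↥H₀) : G) := by
    rw [hx]; push_cast; group
  have hmem : (g : G) * k * z * ((g : G) * k)⁻¹ ∈ H₀ := hxg ▸ (g * x * g⁻¹).2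
  have himg : ∀ v, ρ₀ S ρ ⟨_, hmem⟩ (ρ₀ S ρ g v) = ρ₀ S ρ g (ρ₀ S ρ x v) := fun v => by
    rw [show (⟨_, hmem⟩ : ↥H₀) = g * x * g⁻¹ from Subtype.ext hxg, map_mul, map_mul, map_inv]
    show ρ₀ S ρ g (ρ₀ S ρ x ((ρ₀ S ρ g)⁻¹ (ρ₀ S ρ g v))) = _
    rw [Equiv.Perm.inv_def, Equiv.symm_apply_apply]
  have hset : (Finset.univ.filter fun v : V => ρ₀ S ρ ⟨_, hmem⟩ v = v) =
      (Finset.univ.filter fun v : V => ρ₀ S ρ x v = v).image (ρ₀ S ρ g) := by
    ext v
    obtain ⟨u, rfl⟩ := (ρ₀ S ρ g).surjective v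
    rw [(ρ₀ S ρ g).injective.mem_finset_image, Finset.mem_filter, Finset.mem_filter, himg,
      (ρ₀ S ρ g).injective.eq_iff]
    simp
  have hcard : (Finset.univ.filter fun v : V => ρ₀ S ρ ⟨_, hmem⟩ v = v).card = 64 := by
    rw [hset, Finset.card_image_of_injective _ (ρ₀ S ρ g).injective, h64']
  have hfix : ∀ v, ρ₀ S ρ ⟨_, hmem⟩ v = v ↔ herm v0 v = 0 := by
    have hsub : (Finset.univ.filter fun v : V => ρ₀ S ρ ⟨_, hmem⟩ v = v) ⊆
        Finset.univ.filter fun v : V => herm v0 v = 0 := by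
      intro v hv
      rw [hset, Finset.mem_image] at hv
      obtain ⟨u, hu, rfl⟩ := hv
      refine Finset.mem_filter.2 ⟨Finset.mem_univ _, ?_⟩
      rw [← eγ, hgl.herm_eq]
      exact hperp u (Finset.mem_filter.1 hu).2
    have heq := Finset.eq_of_subset_of_card_le hsub (by rw [hcard, hperp_card])
    intro v
    simpa using Finset.ext_iff.1 heq v
  refine ⟨(g : G) * k, hge.mul_left hk, hmem, fun hJ => hne ?_, hfix, hcard, fun p hp hv => ?_⟩
  · have h1 := L.wcj ((g : G) * k) (hge.mul_left hk) hJ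
    calc k * z * k⁻¹ = (g : G)⁻¹ * ((g : G) * k * z * ((g : G) * k)⁻¹) * g := by group
      _ = z := by rw [h1, mul_assoc, ← hgz.eq, inv_mul_cancel_left]
  · -- pull back and combine the two congruences
    have hq : (g : G)⁻¹ * p * g ∈ J := by
      have := S.conj_mem (g : G)⁻¹ (inv_mem (S.le_cent g.2)) p hp
      rwa [inv_inv] at this
    have hqfix : ρ₀ S ρ x (φ ((g : G)⁻¹ * p * g)) = φ ((g : G)⁻¹ * p * g) := by
      apply (ρ₀ S ρ g).injective
      have e1 : ρ₀ S ρ g (φ ((g : G)⁻¹ * p * g)) = φ p := by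
        rw [← φ_conj S N g hq]
        exact congrArg φ (by group)
      rw [← himg, e1]
      exact (hfix _).2 hv
    have hcx : Commute (x : G) ((g : G)⁻¹ * p * g) := by
      refine commute_iff_conj.2 ?_
      rcases hmod _ hq hqfix with e1 | e1
      · exact e1
      rcases alpha S N x2 h64' hq hqfix with e2 | e2
      · exact e2
      exfalso
      have : e = z := mul_left_cancel (e1.symm.trans e2)
      rcases he with rfl | rfl
      · exact S.a_out.2 this
      · exact S.a_out.1 (mul_eq_right.1 this)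
    have h2 := hcx.map (MulAut.conj (g : G)).toMonoidHom
    simp only [MulEquiv.coe_toMonoidHom, MulAut.conj_apply] at h2
    rw [show (g : G) * ((g : G)⁻¹ * p * g) * (g : G)⁻¹ = p by group, hx] at h2
    convert h2 using 1
    group

/-- Both sides cannot occur. -/
theorem both_sides (La : LiveFacts z a J H₀ φ ρ) (Laz : LiveFacts z (a * z) J H₀ φ ρ)
    (h1 : Side z a) (h2 : Side z (a * z)) : False := by
  classical
  have S := h.setup
  have N := h.nat
  obtain ⟨k, A⟩ := exists_atV0 h (Or.inl rfl) La h1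
  obtain ⟨k', A'⟩ := exists_atV0 h (Or.inr rfl) Laz h2
  set x : ↥H₀ := ⟨k * z * k⁻¹, A.mem⟩ with hx
  set y : ↥H₀ := ⟨k' * z * k'⁻¹, A'.mem⟩ with hy
  have x2 : (x : G) * x = 1 := conj_sq h k S.sq
  have hxi : (x : G)⁻¹ = x := inv_eq_of_mul_eq_one_right x2
  have hfl : IsLin (ρ₀ S ρ x) := isLin_of_isom (ρ₀_isom S N x)
  have hff := invol_image S N x2
  have hyx : ρ₀ S ρ y = ρ₀ S ρ x :=
    eq_of_same_fix hfl (isLin_of_isom (ρ₀_isom S N y)) hff A.card
      (fun v hv => (A'.fix v).2 ((A.fix v).1 hv))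
      (fun e => A'.notJ ((ρ₀_ker_iff S N y).1 e))
  have hj : ((x * y : ↥H₀) : G) ∈ J := by
    rw [← ρ₀_ker_iff S N, map_mul, hyx, hff]
  set j : G := ((x * y : ↥H₀) : G) with hjdef
  have hjperp : ∀ w, herm v0 w = 0 → pol (φ j) w = false := by
    intro w hw
    obtain ⟨p, hp, rfl⟩ := N.toCore.φ_surj w
    refine (pol_comm' N hj hp).1 ?_
    exact (A.centr p hp hw).mul_left (A'.centr p hp hw)
  obtain ⟨c₁, hc₁⟩ := perp_perp (φ j) (fun i => hjperp _ (gen_perp _ (by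
    have hi : i.val < gen.length := i.isLt
    rw [List.getD_eq_getElem _ _ hi]
    exact List.getElem_mem hi)))
  obtain ⟨u, hu⟩ : ∃ u, vadd u (ρ₀ S ρ x u) = φ j := by
    obtain ⟨d, -, -, hline, hperp⟩ := axis hfl hff A.card
    obtain ⟨u, hu⟩ : ∃ u, vadd u (ρ₀ S ρ x u) ≠ 0 := by
      by_contra hno
      push Not at hno
      refine A.notJ ((ρ₀_ker_iff S N x).1 (Equiv.ext fun u => ?_))
      exact (H33.U6E.vadd_eq_zero (hno u)).symm
    -- the difference is orthogonal to the hyperplane of `v0`, so a multiple of `v0`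
    obtain ⟨c, hc⟩ := hline u
    have hw : ∀ w, herm v0 w = 0 → pol (vadd u (ρ₀ S ρ x u)) w = false := by
      intro w hw
      rw [hc, pol, herm_smul_left c.2, hperp w ((A.fix w).2 hw)]
      exact (show ∀ c < 4, decide (2 ≤ fmul (fconj c) 0) = false by decide) _ c.2
    obtain ⟨c₂, hc₂⟩ := perp_perp _ (fun i => hw _ (gen_perp _ (by
      have hi : i.val < gen.length := i.isLt
      rw [List.getD_eq_getElem _ _ hi]
      exact List.getElem_mem hi)))
    have hne : (c₂ : ℕ) ≠ 0 := fun e => hu (by rw [hc₂, e, smul4_zero_left])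
    obtain ⟨e, he4, hec⟩ := (show ∀ c < 4, c ≠ 0 → ∃ e < 4, fmul e c = 1 by decide) _ c₂.2 hne
    refine ⟨smul4 (fmul c₁ e) u, ?_⟩
    rw [show ρ₀ S ρ x (smul4 (fmul c₁ e) u) = smul4 (fmul c₁ e) (ρ₀ S ρ x u) from
      hfl.smul ⟨_, fmul_lt _ _⟩ u, ← smul4_vadd (fmul_lt _ _), hc₂,
      smul4_smul4 (fmul_lt _ _) c₂.2,
      ← (H50.U6C.fmul_xor_aux _ c₁.2 _ he4 _ c₂.2).2.2.1, hec, hc₁]
    exact congrArg (fun t => smul4 t v0)
      ((show ∀ x < 4, fmul x 1 = x by decide) _ c₁.2)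
  obtain ⟨q, hq, rfl⟩ := N.toCore.φ_surj u
  have hxq : (x : G) * q * (x : G)⁻¹ ∈ J := S.conj_mem x (S.le_cent x.2) q hq
  obtain ⟨r, hr, er⟩ := φ_fibre N.toCore hj (mul_mem hxq (inv_mem hq)) (by
    rw [N.toCore.φ_mul _ hxq _ (inv_mem hq), φ_inv N.toCore hq, φ_conj S N x hq,
      H50.U6C.vadd_comm, hu])
  have hyq : (y : G) = q * k * z * (q * k)⁻¹ * r := by
    calc (y : G) = (x : G) * j := by rw [hjdef]; push_cast; rw [← mul_assoc, x2, one_mul]
      _ = (x : G) * ((x : G) * q * (x : G)⁻¹ * q⁻¹ * r) := by rw [er]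
      _ = ((x : G) * x) * q * (x : G)⁻¹ * q⁻¹ * r := by group
      _ = q * (k * z * k⁻¹) * q⁻¹ * r := by rw [x2, one_mul, hxi]
      _ = _ := by group
  set k₁ := q * k with hk₁
  have hk₁a : Commute k₁ a := (S.a_H₀ q (S.J_le hq)).symm.mul_left A.comm
  have hza : Commute z a := H38.Fi22C.za_comm S
  have ea : k₁ * a * k₁⁻¹ = a := commute_iff_conj.1 hk₁a
  have eaz : k' * (a * z) * k'⁻¹ = a * z := commute_iff_conj.1 A'.comm
  have hka : k' * a * k'⁻¹ = a * z * (k' * z * k'⁻¹) := by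
    calc k' * a * k'⁻¹ = k' * (a * z * z) * k'⁻¹ := by rw [mul_assoc a z z, S.sq, mul_one]
      _ = k' * (a * z) * k'⁻¹ * (k' * z * k'⁻¹) := by group
      _ = _ := by rw [eaz]
  have hy' : k' * z * k'⁻¹ = k₁ * z * k₁⁻¹ * r := hyq
  have haz1 : k₁ * (a * z) * k₁⁻¹ = a * (k₁ * z * k₁⁻¹) := by
    calc k₁ * (a * z) * k₁⁻¹ = k₁ * a * k₁⁻¹ * (k₁ * z * k₁⁻¹) := by group
      _ = _ := by rw [ea]
  have hTa : Typ z a a := Or.inr (Or.inl rfl)
  rcases hr with rfl | rfl | rfl | rfl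
  · -- the centres moved with one conjugate agree
    rw [mul_one] at hy'
    have h3 := h.centre_eq hy' (h.typ_inW hTa)
    rw [ea, hka] at h3
    have h4 : z * (k' * z * k'⁻¹) = 1 := by
      have := h3
      rw [mul_assoc] at this
      exact mul_eq_left.1 this
    refine A'.notJ ?_
    rw [eq_inv_of_mul_eq_one_right h4]
    exact inv_mem S.z_mem
  · have e : k' * a * k'⁻¹ = k₁ * (a * r) * k₁⁻¹ := by
      have hc : Commute (k₁ * r * k₁⁻¹) r := by
        have h5 : k₁ * r * k₁⁻¹ ∈ Subgroup.centralizer ({r} : Set G) := by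
          have hxC := S.le_cent A.mem
          have hqC := S.le_cent (S.J_le hq)
          have := mul_mem (mul_mem hqC hxC) (inv_mem hqC)
          convert this using 1
          rw [hk₁]; group
        exact mem_cent_iff.1 h5
      rw [haz1, hka, hy', show a * r * (k₁ * r * k₁⁻¹ * r) = a * (r * (k₁ * r * k₁⁻¹)) * r by group,
        ← hc.eq, show a * (k₁ * r * k₁⁻¹ * r) * r = a * (k₁ * r * k₁⁻¹) * (r * r) by group, S.sq,
        mul_one]
    have h6 := h.typ_conj hTa (q := a * r) (Or.inr (Or.inr rfl)) (k := k₁⁻¹ * k') (by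
      rw [show k₁⁻¹ * k' * a * (k₁⁻¹ * k')⁻¹ = k₁⁻¹ * (k' * a * k'⁻¹) * k₁ by group, e]
      group)
    exact S.ne_one (mul_eq_left.1 h6.symm)
  · have e : k' * z * k'⁻¹ = k₁ * (r * z) * k₁⁻¹ := by
      have hc : Commute r (k₁ * z * k₁⁻¹) := by
        have := hza.map (MulAut.conj k₁).toMonoidHom
        simp only [MulEquiv.coe_toMonoidHom, MulAut.conj_apply, ea] at this
        exact this.symm
      rw [hy', haz1, hc.eq]
    refine H38.Fi22C.not_conj_zaz S (k₁⁻¹ * k') ?_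
    rw [show k₁⁻¹ * k' * z * (k₁⁻¹ * k')⁻¹ = k₁⁻¹ * (k' * z * k'⁻¹) * k₁ by group, e]
    group
  · have e : k' * a * k'⁻¹ = k₁ * z * k₁⁻¹ := by
      have hx1 : Commute (a * z) (k₁ * z * k₁⁻¹) := by
        have hxC : k₁ * z * k₁⁻¹ ∈ H₀ := by
          have := mul_mem (mul_mem (S.J_le hq) A.mem) (inv_mem (S.J_le hq))
          convert this using 1
          rw [hk₁]; group
        exact (S.a_H₀ _ hxC).mul_left (mem_cent_iff.1 (S.le_cent hxC)).symm
      have hw : a * z * (a * z) = 1 := (H38.Fi22C.setup_az S).a_sq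
      rw [hka, hy', ← mul_assoc, hx1.eq, mul_assoc, hw, mul_one]
    refine H38.Fi22C.not_conj_za S (k'⁻¹ * k₁) ?_
    rw [show k'⁻¹ * k₁ * z * (k'⁻¹ * k₁)⁻¹ = k'⁻¹ * (k₁ * z * k₁⁻¹) * k' by group, ← e]
    group

omit h

universe u v w

/-- Both sides dead: `z` is weakly closed. -/
theorem noSwapDead : NoSwapDeadStmt.{u, v} := by
  intro G _ _ F _ _ z a J H₀ π φ ρ S N hns hd hd'
  have h : Hyp z a J H₀ π φ ρ := ⟨S, N, hns⟩
  have hw : ∀ e, (e = a ∨ e = a * z) → ∀ k, Commute k e → k * z * k⁻¹ ∈ J →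
      k * z * k⁻¹ = z := by
    rintro e (rfl | rfl) k hk hJ
    · exact hd.1 k hk (mem_cent_iff.1 (S.le_cent (S.J_le hJ)))
    · exact hd'.1 k hk (mem_cent_iff.1 (S.le_cent (S.J_le hJ)))
  intro p hp hc
  obtain ⟨k, rfl⟩ := isConj_iff.1 hc
  by_contra hne
  have hxz := mem_cent_iff.1 hp
  have hA : Commute (k * a * k⁻¹) z :=
    (h.centre_unique (k := k) hxz.symm (Or.inr (Or.inr (Or.inl rfl)))).symm
  by_cases hka : k * a * k⁻¹ = a
  · exact hne (hd.1 k (commute_iff_conj.2 hka) hxz)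
  · exact side_dead hd'
      (side_of h hw (fun h1 _ => side_dead hd h1) (Or.inl rfl) hA hka)

/-- A live side makes `a` isolated. -/
theorem noSwapLive : NoSwapLiveStmt.{u, v, w} := by
  intro G _ _ F _ _ K _ _ hK z a J H₀ π φ ρ S N hns hl g hg
  have h : Hyp z a J H₀ π φ ρ := ⟨S, N, hns⟩
  have La := liveFacts S N hK hns hl
  have hns' : NoSwap z (a * z) := fun c hc => (hns c hc).mul_right (mem_cent_iff.1 hc)
  have hor : Dead z (a * z) ∨ LiveFacts z (a * z) J H₀ φ ρ :=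
    (H38.Fi22C.dichN K hK (H38.Fi22C.setup_az S) hns').imp id fun hl' =>
      liveFacts (H38.Fi22C.setup_az S) (H38.Fi22C.natJ_az S N) hK hns' hl'
  have hw : ∀ e, (e = a ∨ e = a * z) → ∀ k, Commute k e → k * z * k⁻¹ ∈ J →
      k * z * k⁻¹ = z := by
    rintro e (rfl | rfl) k hk hJ
    · exact La.wcj k hk hJ
    · rcases hor with hd | hl'
      · exact hd.1 k hk (mem_cent_iff.1 (S.le_cent (S.J_le hJ)))
      · exact hl'.wcj k hk hJ
  have hno : Side z a → Side z (a * z) → False := fun h1 h2 => by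
    rcases hor with hd | hl'
    · exact side_dead hd h2
    · exact both_sides h La hl' h1 h2
  by_contra hne
  -- move the conjugate into the centraliser of `z`
  haveI : Fact (Nat.Prime 2) := ⟨Nat.prime_two⟩
  obtain ⟨P, hP⟩ := h.exists_sylow
  have hPa : (P : Subgroup G) ≤ Subgroup.centralizer ({a} : Set G) := fun x hx =>
    mem_cent_iff.2 (h.inW_comm (Or.inr (Or.inr (Or.inl rfl))) (hP x hx))
  set A : ↥(Subgroup.centralizer ({a} : Set G)) := ⟨g * a * g⁻¹, mem_cent_iff.2 hg⟩ with hA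
  have hA2 : IsPGroup 2 (Subgroup.zpowers A) := by
    have hAA : A * A = 1 := Subtype.ext (conj_sq h g S.a_sq)
    have hne1 : A ≠ 1 := fun e =>
      S.a_out.1 (conj_eq_one_iff.1 (congrArg Subtype.val e : g * a * g⁻¹ = 1))
    refine IsPGroup.of_card (n := 1) ?_
    rw [Nat.card_zpowers, orderOf_eq_prime (by rw [pow_two, hAA]) hne1, pow_one]
  obtain ⟨Q, hQ⟩ := hA2.exists_le_sylow
  obtain ⟨c, hc⟩ := MulAction.exists_smul_eq ↥(Subgroup.centralizer ({a} : Set G)) Q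
    (P.subtype hPa)
  have hm : c * A * c⁻¹ ∈ P.subtype hPa := by
    rw [← hc]
    exact ⟨A, hQ (Subgroup.mem_zpowers A), rfl⟩
  have hcz : Commute ((c : G) * g * a * ((c : G) * g)⁻¹) z := by
    have h1 : (c : G) * (g * a * g⁻¹) * (c : G)⁻¹ ∈ P := hm
    have := hP _ h1
    convert this using 1
    group
  have hca : (c : G) * a * (c : G)⁻¹ = a := commute_iff_conj.1 (mem_cent_iff.1 c.2)
  have hcne : (c : G) * g * a * ((c : G) * g)⁻¹ ≠ a := fun e => hne (by
    calc g * a * g⁻¹ = (c : G)⁻¹ * ((c : G) * g * a * ((c : G) * g)⁻¹) * c := by group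
      _ = (c : G)⁻¹ * ((c : G) * a * (c : G)⁻¹) * c := by rw [e, hca]
      _ = a := by group)
  obtain ⟨k, hk1, hk2, hk3⟩ := La.moved
  exact hno ⟨k, hk1, hk2, hk3⟩ (side_of h hw hno (Or.inl rfl) hcz hcne)

end H16.Fi22C
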