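import Cfsg.Agent.H16.Fi22C.Lifts
import Cfsg.Agent.H20.Fi22C.SwapJ
import Cfsg.Agent.H39.Fi22C.Outer

/-!
The swap case of S3232 with `z` isolated in `C(a)`: `z` is weakly closed, given the fact on the
model that three nondegenerate elements over one singular line are not all normalised alike.
-/

set_option autoImplicit false
set_option maxRecDepth 100000
set_option linter.unusedSectionVars false

namespace H16.Fi22C

open H38.U6C H50.U6C H2.U6E H39.Fi22C H33.U6E.Cert

/-- The fact on the model. -/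
def LineKill : Prop :=
  ∀ {f h : Equiv.Perm V}, IsLin f → IsLin h → f * f = 1 → h * h = 1 →
    (Finset.univ.filter fun v => f v = v).card = 16 →
    (Finset.univ.filter fun v => h v = v).card = 16 →
    (Finset.univ.filter fun v => (f * h) v = v).card = 16 →
    (∀ v, f v = v → h v = v) →
    ∃ g ∈ uGroup, g * f = f * g ∧ g * g * (g * g) * h ≠ h * (g * g * (g * g))

variable {G : Type*} [Group G] [Finite G] {F : Type*} [Field F] [Fintype F] {z a : G}
  {J H₀ : Subgroup G} {π : ↥H₀ →* Cfsg.PSp 2 F} {φ : G → V}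
  {ρ : ↥(Subgroup.centralizer ({z} : Set G)) →* Equiv.Perm V}
  (S : Setup3 z a J H₀ π) (N : NatJ z a J H₀ φ ρ) (sw : Swap z a) (hd : Dead z a)

include S N

/-- An involution of `H₀` outside the core fixes sixteen or sixty-four vectors. -/
theorem fix_16_64 {b : ↥H₀} (h2 : (b : G) * b = 1) (hb : (b : G) ∉ J) :
    (Finset.univ.filter fun v : V => ρ₀ S ρ b v = v).card = 16 ∨
    (Finset.univ.filter fun v : V => ρ₀ S ρ b v = v).card = 64 := by
  have hfl : IsLin (ρ₀ S ρ b) := isLin_of_isom (ρ₀_isom S N b)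
  have h16 := card_fixed_invol hfl.add (invol_image S N h2)
  by_cases h : 16 < (Finset.univ.filter fun v : V => ρ₀ S ρ b v = v).card
  · exact Or.inr (closed_full hfl (fun e => hb ((ρ₀_ker_iff S N b).1 e))
      (fun v hv => (Finset.mem_filter.1 hv).2) (closed_fix hfl) h).2
  · exact Or.inl (by omega)

/-- Two involutions with the same centraliser in the core, one over a transvection, differ by the
core. -/
theorem big_same {b c : ↥H₀} (hb2 : (b : G) * b = 1) (hc : (c : G) ∉ J)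
    (h64 : (Finset.univ.filter fun v : V => ρ₀ S ρ b v = v).card = 64)
    (hsub : ∀ p ∈ J, Commute (b : G) p → Commute (c : G) p) : ((b * c : ↥H₀) : G) ∈ J := by
  classical
  set f := ρ₀ S ρ b with hf
  set h := ρ₀ S ρ c with hh
  have hfl : IsLin f := isLin_of_isom (ρ₀_isom S N b)
  have hhl : IsLin h := isLin_of_isom (ρ₀_isom S N c)
  have hbig := cent_big S N hb2 h64
  set T := Finset.univ.filter fun v : V => f v = v ∧ h v = v with hT
  have hCT : {p | p ∈ J ∧ Commute (b : G) p}.ncard ≤ 4 * T.card := by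
    refine (Set.ncard_le_ncard (fun p hp => ?_) (Set.toFinite _)).trans
      (ncard_preimage N.toCore T)
    exact ⟨hp.1, Finset.mem_filter.2 ⟨Finset.mem_univ _, fix_of_commute S N hp.1 hp.2,
      fix_of_commute S N hp.1 (hsub p hp.1 hp.2)⟩⟩
  have hTc : Closed T := by
    refine ⟨Finset.mem_filter.2 ⟨Finset.mem_univ _, H39.U6E.lin_zero hfl,
      H39.U6E.lin_zero hhl⟩, fun u hu v hv => ?_, fun e u hu => ?_⟩ <;>
      rw [hT, Finset.mem_filter] at * <;> refine ⟨Finset.mem_univ _, ?_, ?_⟩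
    · rw [hfl.add, hu.2.1, hv.2.1]
    · rw [hhl.add, hu.2.2, hv.2.2]
    · rw [hfl.smul, hu.2.1]
    · rw [hhl.smul, hu.2.2]
  have hfne : f ≠ 1 := fun e => by
    rw [Finset.filter_true_of_mem fun v _ => by rw [e]; rfl] at h64
    simp at h64
  obtain ⟨hall, -⟩ := closed_full hfl hfne (S := T)
    (fun v hv => (Finset.mem_filter.1 hv).2.1) hTc (by omega)
  have heq : h = f := eq_of_same_fix hfl hhl (invol_image S N hb2) h64
    (fun v hv => (Finset.mem_filter.1 (hall v hv)).2.2)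
    (fun e => hc ((ρ₀_ker_iff S N c).1 e))
  rw [← ρ₀_ker_iff S N, map_mul, ← hf, ← hh, heq, invol_image S N hb2]

include sw hd

/-- A conjugate of `z` in the centraliser lies in `H₀`. -/
theorem conj_inner (hw : ∀ p ∈ J, IsConj z p → p = z) {k : G}
    (hx : k * z * k⁻¹ ∈ Subgroup.centralizer ({z} : Set G)) : k * z * k⁻¹ ∈ H₀ := by
  by_contra hn
  exact outer_not_conj N.toCore hw hx (conj_of_not_mem S sw hx hn)
    (N.anti_of_not_mem ⟨_, hx⟩ hn) (isConj_iff.2 ⟨k, rfl⟩)

/-- The conjugate of `a` by the same element lies in `H₀` as well. -/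
theorem conj_a_inner (hw : ∀ p ∈ J, IsConj z p → p = z) {k : G}
    (hx : k * z * k⁻¹ ∈ Subgroup.centralizer ({z} : Set G)) (hne : k * z * k⁻¹ ≠ z) :
    k * a * k⁻¹ ∈ H₀ := by
  have hxH := conj_inner S N sw hd hw hx
  have hy' : k⁻¹ * z * k⁻¹⁻¹ ∈ Subgroup.centralizer ({z} : Set G) := by
    refine mem_cent_iff.2 ?_
    have h := conj_inv_comm (k := k) (mem_cent_iff.1 hx).symm
    simpa [mul_assoc] using h
  have hyH := conj_inner S N sw hd hw hy'
  rw [inv_inv] at hyH
  have hA : k * a * k⁻¹ ∈ Subgroup.centralizer ({z} : Set G) := by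
    refine mem_cent_iff.2 ?_
    have h := (S.a_H₀ _ hyH).map (MulAut.conj k).toMonoidHom
    simpa [mul_assoc] using h
  have hb : k⁻¹ * a * k ∈ Subgroup.centralizer ({z} : Set G) := by
    refine mem_cent_iff.2 ?_
    have h := conj_inv_comm (k := k) (S.a_H₀ _ hxH)
    simpa [mul_assoc] using h
  rcases S.conj_a _ hb with h | h
  · refine H₀_of_commute S sw hA ?_
    have h' := (commute_iff_conj.2 h).map (MulAut.conj k).toMonoidHom
    have : Commute a (k * a * k⁻¹) := by simpa [mul_assoc] using h'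
    exact this.symm
  · by_contra hn
    have hsw := conj_of_not_mem S sw hA hn
    have h2 : a * (k * a * k⁻¹) * a⁻¹ = k * a * k⁻¹ * (k * z * k⁻¹) := by
      calc a * (k * a * k⁻¹) * a⁻¹ = k * ((k⁻¹ * a * k) * a * (k⁻¹ * a * k)⁻¹) * k⁻¹ := by group
        _ = k * (a * z) * k⁻¹ := by rw [h]
        _ = _ := by group
    have ai : a⁻¹ = a := inv_eq_of_mul_eq_one_right S.a_sq
    have AA : k * a * k⁻¹ * (k * a * k⁻¹) = 1 := by
      rw [show k * a * k⁻¹ * (k * a * k⁻¹) = k * (a * a) * k⁻¹ by group, S.a_sq]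
      group
    refine hne ?_
    rw [inv_eq_of_mul_eq_one_right AA] at hsw
    rw [ai] at h2
    calc k * z * k⁻¹ = (k * a * k⁻¹) * (k * a * k⁻¹ * (k * z * k⁻¹)) := by
          rw [← mul_assoc, AA, one_mul]
      _ = ((k * a * k⁻¹) * a * (k * a * k⁻¹)) * a := by rw [← h2]; group
      _ = z := by
        rw [hsw, mul_assoc, (mem_cent_iff.1 (S.le_cent (S.J_le S.a_mem))).symm.eq, ← mul_assoc,
          S.a_sq, one_mul]

theorem conj_a_not_J (hw : ∀ p ∈ J, IsConj z p → p = z) {k : G}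
    (hx : k * z * k⁻¹ ∈ Subgroup.centralizer ({z} : Set G)) (hne : k * z * k⁻¹ ≠ z)
    {e : G} (he : e = a ∨ e = a * z) : k * e * k⁻¹ ∉ J := by
  intro hm
  have h1 : k * e * k⁻¹ = a ∨ k * e * k⁻¹ = a * z := by
    rcases he with rfl | rfl
    · exact H20.Fi22C.conj_a_mem S hd hw k hm
    · rcases H20.Fi22C.conj_a_mem (H38.Fi22C.setup_az S) (dead_az sw hd) hw k hm with h | h
      · exact Or.inr h
      · exact Or.inl (by rw [h, mul_assoc, S.sq, mul_one])
  obtain ⟨t, ht, hta⟩ := sw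
  have htz := commute_iff_conj.1 (mem_cent_iff.1 ht)
  have htaz : t * (a * z) * t⁻¹ = a := by
    rw [show t * (a * z) * t⁻¹ = (t * a * t⁻¹) * (t * z * t⁻¹) by group, hta, htz, mul_assoc,
      S.sq, mul_one]
  obtain ⟨s, hs, hse⟩ : ∃ s ∈ Subgroup.centralizer ({z} : Set G),
      s * (k * e * k⁻¹) * s⁻¹ = e := by
    rcases he with rfl | rfl <;> rcases h1 with h | h <;> rw [h]
    · exact ⟨1, one_mem _, by simp⟩
    · exact ⟨t, ht, htaz⟩
    · exact ⟨t, ht, hta⟩
    · exact ⟨1, one_mem _, by simp⟩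
  have hxs : s * k * z * (s * k)⁻¹ = s * (k * z * k⁻¹) * s⁻¹ := by group
  have hsz := commute_iff_conj.1 (mem_cent_iff.1 hs)
  have hcx : Commute (s * (k * z * k⁻¹) * s⁻¹) z := by
    have h := (mem_cent_iff.1 hx).map (MulAut.conj s).toMonoidHom
    simp only [MulEquiv.coe_toMonoidHom, MulAut.conj_apply, hsz] at h
    exact h
  have h2 := (dead_of ⟨t, ht, hta⟩ hd he).1 (s * k) (commute_iff_conj.2 (by
    rw [show s * k * e * (s * k)⁻¹ = s * (k * e * k⁻¹) * s⁻¹ by group, hse])) (by rwa [hxs])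
  rw [hxs] at h2
  refine hne ?_
  calc k * z * k⁻¹ = s⁻¹ * (s * (k * z * k⁻¹) * s⁻¹) * s := by group
    _ = s⁻¹ * (s * z * s⁻¹) * s := by rw [h2, hsz]
    _ = z := by group

/-- No other conjugate of `z` commutes with `z`. -/
theorem no_conj (lk : LineKill) (hw : ∀ p ∈ J, IsConj z p → p = z) {k : G}
    (hx : k * z * k⁻¹ ∈ Subgroup.centralizer ({z} : Set G)) (hne : k * z * k⁻¹ ≠ z) : False := by
  classical
  have hxH := conj_inner S N sw hd hw hx
  have hAH := conj_a_inner S N sw hd hw hx hne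
  set x := k * z * k⁻¹ with hxdef
  set A := k * a * k⁻¹ with hAdef
  have hxJ : x ∉ J := fun h => hne (hw x h (isConj_iff.2 ⟨k, rfl⟩))
  have hAJ : A ∉ J := conj_a_not_J S N sw hd hw hx hne (Or.inl rfl)
  have hAx : A * x = k * (a * z) * k⁻¹ := by rw [hAdef, hxdef]; group
  have hAxJ : A * x ∉ J := hAx ▸ conj_a_not_J S N sw hd hw hx hne (Or.inr rfl)
  have hcAx : Commute A x := by
    have h := (comm_z_of S sw hd (Or.inl rfl)).symm.map (MulAut.conj k).toMonoidHom
    simpa [hAdef, hxdef] using h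
  have x2 : x * x = 1 := by
    rw [hxdef, show k * z * k⁻¹ * (k * z * k⁻¹) = k * (z * z) * k⁻¹ by group, S.sq]; group
  have A2 : A * A = 1 := by
    rw [hAdef, show k * a * k⁻¹ * (k * a * k⁻¹) = k * (a * a) * k⁻¹ by group, S.a_sq]; group
  have Ax2 : A * x * (A * x) = 1 := by
    rw [show A * x * (A * x) = A * (x * A) * x by group, ← hcAx.eq,
      show A * (A * x) * x = (A * A) * (x * x) by group, A2, x2, one_mul]
  -- the three have the same centraliser in the core
  have hdead : ∀ {e : G}, e = a ∨ e = a * z → ∀ p ∈ J, Commute (k * e * k⁻¹) p → Commute x p := by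
    intro e he p hp hc
    have h := dead_use S (k := k⁻¹) (comm_z_of S sw hd he) (dead_of sw hd he)
      (by rw [inv_inv]; exact hx) hp (by rw [inv_inv]; exact hc)
    rwa [inv_inv] at h
  have hxA : ∀ g, g ∈ H₀ → Commute g x →
      g * A * g⁻¹ = A ∨ g * A * g⁻¹ = A * x := by
    intro g hg hc
    have hg' : k⁻¹ * g * k ∈ Subgroup.centralizer ({z} : Set G) := by
      refine mem_cent_iff.2 ?_
      have h := conj_inv_comm (k := k) hc
      simpa [hxdef, mul_assoc] using h
    rcases S.conj_a _ hg' with h | h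
    · left
      calc g * A * g⁻¹ = k * ((k⁻¹ * g * k) * a * (k⁻¹ * g * k)⁻¹) * k⁻¹ := by rw [hAdef]; group
        _ = A := by rw [h]
    · right
      calc g * A * g⁻¹ = k * ((k⁻¹ * g * k) * a * (k⁻¹ * g * k)⁻¹) * k⁻¹ := by rw [hAdef]; group
        _ = A * x := by rw [h, hAx]
  have hxtoA : ∀ p ∈ J, Commute x p → Commute A p := by
    intro p hp hc
    rcases hxA p (S.J_le hp) hc.symm with h | h
    · exact (commute_iff_conj.2 h).symm
    · exfalso
      refine hxJ ?_
      have hm : p * (A * p⁻¹ * A⁻¹) ∈ J :=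
        mul_mem hp (S.conj_mem A (S.le_cent hAH) _ (inv_mem hp))
      rwa [show p * (A * p⁻¹ * A⁻¹) = p * A * p⁻¹ * A⁻¹ by group, h, hcAx.eq,
        mul_inv_cancel_right] at hm
  have hAtox : ∀ p ∈ J, Commute A p → Commute x p := fun p hp hc =>
    hdead (Or.inl rfl) p hp (hAdef ▸ hc)
  have hAxtox : ∀ p ∈ J, Commute (A * x) p → Commute x p := fun p hp hc =>
    hdead (Or.inr rfl) p hp (hAx ▸ hc)
  -- none lies over a transvection
  set X : ↥H₀ := ⟨x, hxH⟩ with hX
  set Aₕ : ↥H₀ := ⟨A, hAH⟩ with hAₕ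
  have hXA : ((X * Aₕ : ↥H₀) : G) ∉ J := fun h => hAxJ (by rw [hcAx.eq]; exact h)
  have h16x : (Finset.univ.filter fun v : V => ρ₀ S ρ X v = v).card = 16 :=
    (fix_16_64 S N (b := X) x2 hxJ).resolve_right fun h =>
      hXA (big_same S N (b := X) (c := Aₕ) x2 hAJ h hxtoA)
  have h16A : (Finset.univ.filter fun v : V => ρ₀ S ρ Aₕ v = v).card = 16 :=
    (fix_16_64 S N (b := Aₕ) A2 hAJ).resolve_right fun h => by
      refine hAxJ ?_
      exact big_same S N (b := Aₕ) (c := X) A2 hxJ h hAtox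
  have h16Ax : (Finset.univ.filter fun v : V => ρ₀ S ρ (Aₕ * X) v = v).card = 16 :=
    (fix_16_64 S N (b := Aₕ * X) Ax2 hAxJ).resolve_right fun h => by
      have := big_same S N (b := Aₕ * X) (c := X) Ax2 hxJ h hAxtox
      refine hAJ ?_
      have e : ((Aₕ * X * X : ↥H₀) : G) = A := by
        show A * x * x = A
        rw [mul_assoc, x2, mul_one]
      rwa [e] at this
  set f := ρ₀ S ρ X with hf
  set h := ρ₀ S ρ Aₕ with hh
  have hcomm : f * h = h * f := by
    rw [hf, hh, ← map_mul, ← map_mul]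
    exact congrArg _ (Subtype.ext hcAx.eq.symm)
  have hsame : ∀ v, f v = v → h v = v := by
    intro v hv
    obtain ⟨p, hp, rfl⟩ := N.toCore.φ_surj v
    exact fix_of_commute S N hp (hxtoA p hp (comm_of_fix16 S N (b := X) x2 h16x hp hv))
  obtain ⟨γ, hγ, hγf, hγh⟩ := lk (isLin_of_isom (ρ₀_isom S N X)) (isLin_of_isom (ρ₀_isom S N Aₕ))
    (invol_image S N (b := X) x2) (invol_image S N (b := Aₕ) A2) h16x h16A (by
      rw [hcomm, hf, hh, ← map_mul]
      exact h16Ax) hsame
  rw [← ρ₀_range S N] at hγ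
  obtain ⟨g, rfl⟩ := hγ
  obtain ⟨g', hg'x, hg'ρ⟩ := lift16 S N (b := X) x2 h16x hγf
  have hg2A : Commute (((g' * g' : ↥H₀)) : G) A := by
    refine commute_iff_conj.2 ?_
    push_cast
    rw [show (g' : G) * g' * A * ((g' : G) * g')⁻¹ =
      (g' : G) * ((g' : G) * A * (g' : G)⁻¹) * (g' : G)⁻¹ by group]
    rcases hxA g' g'.2 hg'x with e | e
    · rw [e, e]
    · rw [e, show (g' : G) * (A * x) * (g' : G)⁻¹ =
        ((g' : G) * A * (g' : G)⁻¹) * ((g' : G) * x * (g' : G)⁻¹) by group, e,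
        commute_iff_conj.1 hg'x, mul_assoc, x2, mul_one]
  apply hγh
  have e1 : ρ₀ S ρ g * ρ₀ S ρ g * (ρ₀ S ρ g * ρ₀ S ρ g) = ρ₀ S ρ (g' * g') := by
    rw [map_mul, hg'ρ]
  rw [e1, ← map_mul, ← map_mul]
  exact congrArg _ (Subtype.ext hg2A.eq)

/-- Weak closure, given the fact on the model. -/
theorem wc_of_lineKill (lk : LineKill) (hw : ∀ p ∈ J, IsConj z p → p = z) : WC z := by
  intro p hp hc
  obtain ⟨k, rfl⟩ := isConj_iff.1 hc
  by_contra hne
  exact no_conj S N sw hd lk hw hp hne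

end H16.Fi22C
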