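import Cfsg.Agent.H16.Fi22C.LiveQuot
import Cfsg.Agent.H16.Fi22C.SwapTriple
import Cfsg.Agent.H20.Fi22C.Line
import Cfsg.Agent.H55.Fi22C.Basic

/-!
The case without swap: a further conjugate of `a` or `az` in the centraliser of `z` gives a further
conjugate of `z` moved by the centraliser of the other one, and both cannot happen.
-/

set_option autoImplicit false
set_option maxRecDepth 100000
set_option linter.unusedSectionVars false

namespace H16.Fi22C

open H38.U6C H50.U6C H2.U6E H39.Fi22C H33.U6E.Cert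
open H55.Fi22C (Hyp Typ)

variable {G : Type*} [Group G] [Finite G] {F : Type*} [Field F] [Fintype F] {z a : G}
  {J H₀ : Subgroup G} {π : ↥H₀ →* Cfsg.PSp 2 F} {φ : G → V}
  {ρ : ↥(Subgroup.centralizer ({z} : Set G)) →* Equiv.Perm V}

/-- A conjugate of `z` other than `z` under the centraliser of `e`, commuting with `z`. -/
def Side (z e : G) : Prop :=
  ∃ k : G, Commute k e ∧ Commute (k * z * k⁻¹) z ∧ k * z * k⁻¹ ≠ z

/-- An anti-semilinear map fixes no line pointwise. -/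
theorem anti_no_line {f g : Equiv.Perm V} (hf : IsLin f) (hg : IsAnti g)
    (h16 : (Finset.univ.filter fun v => f v = v).card = 16) (hsame : ∀ v, f v = v → g v = v) :
    False := by
  obtain ⟨v, hv, hv0⟩ := Finset.exists_mem_ne
    (show 1 < (Finset.univ.filter fun v => f v = v).card by omega) 0
  rw [Finset.mem_filter] at hv
  have h2 : f (smul4 2 v) = smul4 2 v := by
    rw [show f (smul4 2 v) = smul4 2 (f v) from hf.smul 2 v, hv.2]
  have e := hsame _ h2
  rw [H39.U6E.anti_smul_two hg, hsame v hv.2] at e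
  exact hv0 ((show ∀ v : V, smul4 3 v = smul4 2 v → v = 0 by decide +kernel) v e)

/-- An anti-semilinear element centralises at most sixty-four elements of the core. -/
theorem anti_cent_le (S : Setup3 z a J H₀ π) (N : NatJ z a J H₀ φ ρ) {o : G}
    (ho : o ∈ Subgroup.centralizer ({z} : Set G)) (hn : o ∉ H₀) :
    {p | p ∈ J ∧ Commute o p}.ncard ≤ 64 := by
  classical
  have ha := N.anti_of_not_mem ⟨o, ho⟩ hn
  have h16 := card_fixed_anti ha
  refine (Set.ncard_le_ncard (fun p hp => ?_) (Set.toFinite _)).trans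
    ((ncard_preimage N.toCore (Finset.univ.filter fun v : V => ρ ⟨o, ho⟩ v = v)).trans (by omega))
  refine ⟨hp.1, Finset.mem_filter.2 ⟨Finset.mem_univ _, ?_⟩⟩
  rw [← N.toCore.ρ_φ ⟨o, ho⟩ p hp.1]
  exact congrArg φ (commute_iff_conj.1 hp.2)

/-- Two involutions with the same centraliser in the core are both inner or both outer. -/
theorem same_parity (S : Setup3 z a J H₀ π) (N : NatJ z a J H₀ φ ρ) {i o : G} (hi : i ∈ H₀)
    (ho : o ∈ Subgroup.centralizer ({z} : Set G)) (hn : o ∉ H₀) (i2 : i * i = 1) (hiJ : i ∉ J)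
    (hsub : ∀ p ∈ J, Commute i p → Commute o p) : False := by
  classical
  rcases fix_16_64 S N (b := ⟨i, hi⟩) i2 hiJ with h16 | h64
  · refine anti_no_line (isLin_of_isom (ρ₀_isom S N ⟨i, hi⟩)) (N.anti_of_not_mem ⟨o, ho⟩ hn) h16
      fun v hv => ?_
    obtain ⟨p, hp, rfl⟩ := N.toCore.φ_surj v
    rw [← N.toCore.ρ_φ ⟨o, ho⟩ p hp]
    exact congrArg φ (commute_iff_conj.1 (hsub p hp (comm_of_fix16 S N (b := ⟨i, hi⟩) i2 h16 hp hv)))
  · have h1 := cent_big S N (b := ⟨i, hi⟩) i2 h64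
    have h2 := anti_cent_le S N ho hn
    have h3 : {p | p ∈ J ∧ Commute i p}.ncard ≤ {p | p ∈ J ∧ Commute o p}.ncard :=
      Set.ncard_le_ncard (fun p hp => ⟨hp.1, hsub p hp.1 hp.2⟩) (Set.toFinite _)
    have h1' : 128 ≤ {p | p ∈ J ∧ Commute i p}.ncard := h1
    omega

variable (h : Hyp z a J H₀ π φ ρ)

include h

/-- The other involution of the centre. -/
theorem other_typ {e : G} (he : e = a ∨ e = a * z) :
    e * z = a ∨ e * z = a * z := by
  rcases he with rfl | rfl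
  · exact Or.inr rfl
  · rw [mul_assoc, h.setup.sq, mul_one]; exact Or.inl rfl

theorem typ_of {e : G} (he : e = a ∨ e = a * z) : Typ z a e := Or.inr he

theorem back {e : G} (_he : e = a ∨ e = a * z) : e * z * z = e := by
  rw [mul_assoc, h.setup.sq, mul_one]

theorem ne_other (e : G) : e ≠ e * z := fun e' => h.setup.ne_one (mul_eq_left.1 e'.symm)

/-- A conjugate of `a` or `az` in the core is itself. -/
theorem core_conj (hw : ∀ e, (e = a ∨ e = a * z) → ∀ k, Commute k e → k * z * k⁻¹ ∈ J →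
    k * z * k⁻¹ = z) {p k : G} (hp : Typ z a p) (hm : k * p * k⁻¹ ∈ J) : k * p * k⁻¹ = p := by
  rcases h.core_mem hw hp rfl hm with e | e
  · exact absurd (conj_eq_one_iff.1 e) (h.typ_ne_one hp)
  · exact (h.typ_conj hp e rfl).symm

/-- The choice of a triple over a conjugate of `a` or `az`. -/
theorem choice (hw : ∀ e, (e = a ∨ e = a * z) → ∀ k, Commute k e → k * z * k⁻¹ ∈ J →
    k * z * k⁻¹ = z) {e : G} (he : e = a ∨ e = a * z) {k₀ : G}
    (hB : Commute (k₀ * e * k₀⁻¹) z) (hne : k₀ * e * k₀⁻¹ ≠ e) :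
    ∃ k : G, k * e * k⁻¹ = k₀ * e * k₀⁻¹ ∧ Commute (k * z * k⁻¹) z ∧
      Commute (k * (e * z) * k⁻¹) z ∧ k * e * k⁻¹ ∉ J ∧ k * z * k⁻¹ ∉ J ∧
      (∀ p ∈ J, Commute (k * z * k⁻¹) p ↔ Commute (k * e * k⁻¹) p) ∧
      (Commute k (e * z) ∨ k * (e * z) * k⁻¹ ∉ J) := by
  classical
  set B := k₀ * e * k₀⁻¹ with hBdef
  have hBJ : B ∉ J := fun hm => hne (core_conj h hw (typ_of h he) hm)
  obtain ⟨k, hk, hcen⟩ := h.exists_centre (x := B) (p := e) (typ_of h he) rfl
    (R := J ⊓ Subgroup.centralizer ({B} : Set G))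
    ((H38.Fi22C.isPGroup_J h.setup).to_le inf_le_left) fun r hr => mem_cent_iff.1 hr.2
  have hzR : z ∈ J ⊓ Subgroup.centralizer ({B} : Set G) :=
    ⟨h.setup.z_mem, mem_cent_iff.2 hB.symm⟩
  have hxz : Commute (k * z * k⁻¹) z := hcen z (Or.inl rfl) z hzR
  have hPz : Commute (k * (e * z) * k⁻¹) z := by
    rw [show k * (e * z) * k⁻¹ = (k * e * k⁻¹) * (k * z * k⁻¹) by group, hk]
    exact hB.mul_left hxz
  refine ⟨k, hk, hxz, hPz, hk ▸ hBJ, fun hm => ?_, fun p hp => ⟨fun hc => ?_, fun hc => ?_⟩, ?_⟩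
  · have e1 := core_conj h hw (Or.inl rfl) hm
    have hkz : Commute k z := commute_iff_conj.2 e1
    exact hne (by rw [← hk]; exact commute_iff_conj.1 (h.inW_comm (h.typ_inW (typ_of h he)) hkz))
  · exact (h.centre_unique (k := k) hc.symm (h.typ_inW (typ_of h he))).symm
  · rw [hk] at hc
    exact hcen z (Or.inl rfl) p ⟨hp, mem_cent_iff.2 hc.symm⟩
  · by_cases hm : k * (e * z) * k⁻¹ ∈ J
    · exact Or.inl (commute_iff_conj.2 (core_conj h hw (typ_of h (other_typ h he)) hm))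
    · exact Or.inr hm

theorem conj_sq (k : G) {p : G} (hp : p * p = 1) : k * p * k⁻¹ * (k * p * k⁻¹) = 1 := by
  rw [show k * p * k⁻¹ * (k * p * k⁻¹) = k * (p * p) * k⁻¹ by group, hp]; group

/-- An inner conjugate of `e` gives an element of the centraliser of the other one. -/
theorem inner_case (hw : ∀ e, (e = a ∨ e = a * z) → ∀ k, Commute k e → k * z * k⁻¹ ∈ J →
    k * z * k⁻¹ = z) (hno : Side z a → Side z (a * z) → False) {e : G}
    (he : e = a ∨ e = a * z) {k₀ : G} (hB : Commute (k₀ * e * k₀⁻¹) z)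
    (hne : k₀ * e * k₀⁻¹ ≠ e) (hBH : k₀ * e * k₀⁻¹ ∈ H₀) :
    ∃ k : G, Commute k (e * z) ∧ k * e * k⁻¹ = k₀ * e * k₀⁻¹ ∧ Commute (k * z * k⁻¹) z ∧
      k * z * k⁻¹ ≠ z := by
  classical
  have S := h.setup
  have N := h.nat
  have hsne : ∀ {k : G}, k * e * k⁻¹ = k₀ * e * k₀⁻¹ → k * z * k⁻¹ ≠ z := fun {k} hk h1 => by
    have hkz : Commute k z := commute_iff_conj.2 h1
    exact hne (by rw [← hk]; exact commute_iff_conj.1 (h.inW_comm (h.typ_inW (typ_of h he)) hkz))
  have hnoe : Side z e → Side z (e * z) → False := by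
    rcases he with rfl | rfl
    · exact hno
    · intro h1 h2
      rw [mul_assoc, h.setup.sq, mul_one] at h2
      exact hno h2 h1
  obtain ⟨k, hk, hxz, hPz, hBJ, hxJ, hC, hor⟩ := choice h hw he hB hne
  rcases hor with hside | hPJ
  · exact ⟨k, hside, hk, hxz, hsne hk⟩
  exfalso
  set x := k * z * k⁻¹ with hx
  set B := k * e * k⁻¹ with hBdef
  set P := k * (e * z) * k⁻¹ with hPdef
  have hBH' : B ∈ H₀ := hk ▸ hBH
  have hx2 : x * x = 1 := conj_sq h k S.sq
  have hB2 : B * B = 1 := conj_sq h k (h.typ_sq (typ_of h he))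
  have hP2 : P * P = 1 := conj_sq h k (h.typ_sq (typ_of h (other_typ h he)))
  have hPBx : P = B * x := by rw [hPdef, hBdef, hx]; group
  have hcBx : Commute B x := by
    have := ((h.inW_comm (h.typ_inW (typ_of h he)) (Commute.refl z)).symm).map
      (MulAut.conj k).toMonoidHom
    simpa [hBdef, hx] using this
  have hxH : x ∈ H₀ := by
    by_contra hn
    exact same_parity S N hBH' (mem_cent_iff.2 hxz) hn hB2 hBJ fun p hp hc => (hC p hp).2 hc
  have hPH : P ∈ H₀ := hPBx ▸ mul_mem hBH' hxH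
  have hxBJ : ((⟨x, hxH⟩ * ⟨B, hBH'⟩ : ↥H₀) : G) ∉ J := fun hm => hPJ (by
    rw [hPBx, hcBx.eq]; exact hm)
  have h16x : (Finset.univ.filter fun v : V => ρ₀ S ρ ⟨x, hxH⟩ v = v).card = 16 :=
    (fix_16_64 S N (b := ⟨x, hxH⟩) hx2 hxJ).resolve_right fun h64 =>
      hxBJ (big_same S N (b := ⟨x, hxH⟩) (c := ⟨B, hBH'⟩) hx2 hBJ h64
        fun p hp hc => (hC p hp).1 hc)
  have h16B : (Finset.univ.filter fun v : V => ρ₀ S ρ ⟨B, hBH'⟩ v = v).card = 16 :=
    (fix_16_64 S N (b := ⟨B, hBH'⟩) hB2 hBJ).resolve_right fun h64 => hPJ (by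
      have := big_same S N (b := ⟨B, hBH'⟩) (c := ⟨x, hxH⟩) hB2 hxJ h64
        fun p hp hc => (hC p hp).2 hc
      rw [hPBx]; exact this)
  have hsame : ∀ v, ρ₀ S ρ ⟨x, hxH⟩ v = v → ρ₀ S ρ ⟨B, hBH'⟩ v = v := by
    intro v hv
    obtain ⟨p, hp, rfl⟩ := N.toCore.φ_surj v
    exact fix_of_commute S N hp ((hC p hp).1 (comm_of_fix16 S N (b := ⟨x, hxH⟩) hx2 h16x hp hv))
  by_cases h16P : (Finset.univ.filter fun v : V => ρ₀ S ρ ⟨P, hPH⟩ v = v).card = 16
  · -- three elements over one line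
    have hfh : ρ₀ S ρ ⟨x, hxH⟩ * ρ₀ S ρ ⟨B, hBH'⟩ = ρ₀ S ρ ⟨P, hPH⟩ := by
      rw [← map_mul]
      exact congrArg _ (Subtype.ext (show x * B = P by rw [hPBx, hcBx.eq]))
    obtain ⟨γ, hγ, hγf, hγh⟩ := H20.Fi22C.line_kill (isLin_of_isom (ρ₀_isom S N ⟨x, hxH⟩))
      (isLin_of_isom (ρ₀_isom S N ⟨B, hBH'⟩)) (invol_image S N (b := ⟨x, hxH⟩) hx2)
      (invol_image S N (b := ⟨B, hBH'⟩) hB2) h16x h16B (by rw [hfh]; exact h16P) hsame
    rw [← ρ₀_range S N] at hγ
    obtain ⟨g, rfl⟩ := hγ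
    obtain ⟨g', hg'x, hg'ρ⟩ := lift16 S N (b := ⟨x, hxH⟩) hx2 h16x hγf
    have hgB : Commute (g' : G) B :=
      h.centre_unique (k := k) hg'x (h.typ_inW (typ_of h he))
    have hc2 : Commute ((g' * g' : ↥H₀)) ⟨B, hBH'⟩ := Subtype.ext (hgB.mul_left hgB).eq
    apply hγh
    have e1 : ρ₀ S ρ g * ρ₀ S ρ g * (ρ₀ S ρ g * ρ₀ S ρ g) = ρ₀ S ρ (g' * g') := by
      rw [map_mul, hg'ρ]
    rw [e1]
    exact (hc2.map (ρ₀ S ρ)).eq
  · -- the third lies over a transvection
    have h64P := (fix_16_64 S N (b := ⟨P, hPH⟩) hP2 hPJ).resolve_left h16P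
    have hPne : P ≠ e * z := fun hm =>
      hPJ (by rw [hm]; exact h.typ_mem (typ_of h (other_typ h he)))
    obtain ⟨k', hk', hx'z, hQz, hPJ', hx'J, hC', hor'⟩ := choice h hw (other_typ h he) hPz hPne
    rw [back h he] at hQz hor'
    set x' := k' * z * k'⁻¹ with hx'
    have hx'H : x' ∈ H₀ := by
      by_contra hn
      exact same_parity S N hPH (mem_cent_iff.2 hx'z) hn hP2 hPJ fun p hp hc =>
        (hC' p hp).2 (hk' ▸ hc)
    have hQeq : k' * e * k'⁻¹ = k' * (e * z) * k'⁻¹ * x' := by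
      rw [hx', show k' * (e * z) * k'⁻¹ * (k' * z * k'⁻¹) = k' * (e * z * z) * k'⁻¹ by group,
        back h he]
    rcases hor' with hside' | hQJ
    swap
    · refine hQJ ?_
      have := big_same S N (b := ⟨P, hPH⟩) (c := ⟨x', hx'H⟩) hP2 hx'J h64P
        fun p hp hc => (hC' p hp).2 (hk' ▸ hc)
      rw [hQeq, hk']
      exact this
    -- both sides occur
    have hxx' : x ≠ x' := fun e' => by
      refine h16P ?_
      exfalso
      have hQ : k' * e * k'⁻¹ = e := commute_iff_conj.1 hside'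
      rw [hQeq, hk', ← hPdef, ← e', hPBx, mul_assoc, hx2, mul_one, hk] at hQ
      exact hne hQ
    have hk'ne : k' * z * k'⁻¹ ≠ z := fun h1 => hx'J (by
      rw [hx', h1]; exact S.z_mem)
    have hPx' : P = e * x' := by
      have := commute_iff_conj.1 hside'
      calc P = k' * (e * z) * k'⁻¹ := hk'.symm
        _ = k' * e * k'⁻¹ * x' := by rw [hx']; group
        _ = e * x' := by rw [this]
    refine hnoe ⟨k', hside', hx'z, hk'ne⟩ ?_
    refine ⟨k'⁻¹ * k, ?_, ?_, ?_⟩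
    · refine commute_iff_conj.2 ?_
      calc k'⁻¹ * k * (e * z) * (k'⁻¹ * k)⁻¹ = k'⁻¹ * P * k' := by rw [hPdef]; group
        _ = k'⁻¹ * (k' * (e * z) * k'⁻¹) * k' := by rw [hk', ← hPdef]
        _ = e * z := by group
    · -- `x` commutes with `x'`
      have hcPx : Commute P x := hPBx ▸ hcBx.mul_left (Commute.refl x)
      have hex : Commute e x := (h.inW_comm (h.typ_inW (typ_of h he)) hxz).symm
      have hx'x : Commute x x' := by
        have h1 : x' = e⁻¹ * P := by rw [hPx']; group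
        rw [h1]
        exact (hex.symm.inv_right).mul_right hcPx.symm
      have := hx'x.map (MulAut.conj k'⁻¹).toMonoidHom
      simp only [MulEquiv.coe_toMonoidHom, MulAut.conj_apply, inv_inv] at this
      rw [show k'⁻¹ * x' * k' = z by rw [hx']; group] at this
      rwa [show k'⁻¹ * k * z * (k'⁻¹ * k)⁻¹ = k'⁻¹ * x * k' by rw [hx]; group]
    · intro h1
      refine hxx' ?_
      calc x = k' * (k'⁻¹ * k * z * (k'⁻¹ * k)⁻¹) * k'⁻¹ := by rw [hx]; group
        _ = x' := by rw [h1]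

/-- A further conjugate of `e` in the centraliser gives a side at the other involution. -/
theorem side_of (hw : ∀ e, (e = a ∨ e = a * z) → ∀ k, Commute k e → k * z * k⁻¹ ∈ J →
    k * z * k⁻¹ = z) (hno : Side z a → Side z (a * z) → False) {e : G}
    (he : e = a ∨ e = a * z) {k₀ : G} (hB : Commute (k₀ * e * k₀⁻¹) z)
    (hne : k₀ * e * k₀⁻¹ ≠ e) : Side z (e * z) := by
  classical
  have S := h.setup
  have N := h.nat
  by_cases hBH : k₀ * e * k₀⁻¹ ∈ H₀
  · obtain ⟨k, h1, -, h3, h4⟩ := inner_case h hw hno he hB hne hBH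
    exact ⟨k, h1, h3, h4⟩
  obtain ⟨k, hk, hxz, hPz, hBJ, hxJ, hC, hor⟩ := choice h hw he hB hne
  rcases hor with hside | hPJ
  · exact ⟨k, hside, hxz, fun h1 => hxJ (by rw [h1]; exact S.z_mem)⟩
  exfalso
  set x := k * z * k⁻¹ with hx
  set P := k * (e * z) * k⁻¹ with hPdef
  have hxn : x ∉ H₀ := fun hxH => by
    refine same_parity S N hxH (mem_cent_iff.2 hB) hBH (conj_sq h k S.sq) hxJ fun p hp hc => ?_
    rw [← hk]
    exact (hC p hp).1 hc
  have hPH : P ∈ H₀ := by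
    rw [hPdef, show k * (e * z) * k⁻¹ = (k * e * k⁻¹) * (k * z * k⁻¹) by group, hk]
    exact S.out_mul _ (mem_cent_iff.2 hB) _ (mem_cent_iff.2 hxz) hBH hxn
  have hPne : P ≠ e * z := fun hm =>
    hPJ (by rw [hm]; exact h.typ_mem (typ_of h (other_typ h he)))
  obtain ⟨k', hk'c, hk', hx'z, hk'ne⟩ := inner_case h hw hno (other_typ h he) hPz hPne hPH
  rw [back h he] at hk'c
  set x' := k' * z * k'⁻¹ with hx'
  have hQ : k' * e * k'⁻¹ = e := commute_iff_conj.1 hk'c
  have hPx' : P = e * x' := by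
    calc P = k' * (e * z) * k'⁻¹ := hk'.symm
      _ = k' * e * k'⁻¹ * x' := by rw [hx']; group
      _ = e * x' := by rw [hQ]
  have hx'H : x' ∈ H₀ := by
    have h1 : x' = e⁻¹ * P := by rw [hPx']; group
    rw [h1]
    exact mul_mem (inv_mem (S.J_le (h.typ_mem (typ_of h he)))) hPH
  have hsideE : Side z e := ⟨k', hk'c, hx'z, hk'ne⟩
  have hsideO : Side z (e * z) := by
    refine ⟨k'⁻¹ * k, ?_, ?_, ?_⟩
    · refine commute_iff_conj.2 ?_
      calc k'⁻¹ * k * (e * z) * (k'⁻¹ * k)⁻¹ = k'⁻¹ * P * k' := by rw [hPdef]; group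
        _ = k'⁻¹ * (k' * (e * z) * k'⁻¹) * k' := by rw [hk', ← hPdef]
        _ = e * z := by group
    · have hcBx : Commute (k * e * k⁻¹) x := by
        have := ((h.inW_comm (h.typ_inW (typ_of h he)) (Commute.refl z)).symm).map
          (MulAut.conj k).toMonoidHom
        simpa [hx] using this
      have hcPx : Commute P x := by
        rw [hPdef, show k * (e * z) * k⁻¹ = (k * e * k⁻¹) * (k * z * k⁻¹) by group, ← hx]
        exact hcBx.mul_left (Commute.refl x)
      have hex : Commute e x := (h.inW_comm (h.typ_inW (typ_of h he)) hxz).symm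
      have hx'x : Commute x x' := by
        rw [show x' = e⁻¹ * P by rw [hPx']; group]
        exact (hex.symm.inv_right).mul_right hcPx.symm
      have := hx'x.map (MulAut.conj k'⁻¹).toMonoidHom
      simp only [MulEquiv.coe_toMonoidHom, MulAut.conj_apply, inv_inv] at this
      rw [show k'⁻¹ * x' * k' = z by rw [hx']; group] at this
      rwa [show k'⁻¹ * k * z * (k'⁻¹ * k)⁻¹ = k'⁻¹ * x * k' by rw [hx]; group]
    · intro h1
      refine hxn ?_
      have : x = x' := by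
        calc x = k' * (k'⁻¹ * k * z * (k'⁻¹ * k)⁻¹) * k'⁻¹ := by rw [hx]; group
          _ = x' := by rw [h1]
      rw [this]
      exact hx'H
  rcases he with rfl | rfl
  · exact hno hsideE hsideO
  · rw [mul_assoc, h.setup.sq, mul_one] at hsideO
    exact hno hsideO hsideE

end H16.Fi22C
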