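import Cfsg.Agent.H39.Fi22C.Basic
import Cfsg.Agent.H16.Fi22C.Facts

/-!
The swap case of S3232: generalities on the centraliser, and the stabiliser of an involution of the
core.
-/

set_option autoImplicit false
set_option maxRecDepth 100000
set_option linter.unusedSectionVars false

namespace H16.Fi22C

open H38.U6C H50.U6C H2.U6E H39.Fi22C

variable {G : Type*} [Group G] [Finite G] {F : Type*} [Field F] [Fintype F] {z a : G}
  {J H₀ : Subgroup G} {π : ↥H₀ →* Cfsg.PSp 2 F}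

theorem mem_cent_iff {g e : G} : g ∈ Subgroup.centralizer ({e} : Set G) ↔ Commute g e :=
  Subgroup.mem_centralizer_singleton_iff

theorem commute_iff_conj {g e : G} : Commute g e ↔ g * e * g⁻¹ = e :=
  mul_inv_eq_iff_eq_mul.symm

theorem card_hom {A B : Type*} [Group A] [Group B] (f : A →* B) :
    Nat.card A = Nat.card f.range * Nat.card f.ker := by
  rw [f.ker.card_eq_card_quotient_mul_card_subgroup,
    Nat.card_congr (QuotientGroup.quotientKerEquivRange f).toEquiv]

/-- The centre of the core. -/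
def zsub (S : Setup3 z a J H₀ π) : Subgroup G where
  carrier := {r | r = 1 ∨ r = z ∨ r = a ∨ r = a * z}
  one_mem' := Or.inl rfl
  mul_mem' := fun {r r'} hr hr' => by
    have hza : Commute z a := (mem_cent_iff.1 (S.le_cent (S.J_le S.a_mem))).symm
    simp only [Set.mem_setOf_eq] at hr hr' ⊢
    have e1 : a * (a * z) = z := by rw [← mul_assoc, S.a_sq, one_mul]
    have e2 : z * (a * z) = a := by rw [← mul_assoc, hza.eq, mul_assoc, S.sq, mul_one]
    have e3 : a * z * z = a := by rw [mul_assoc, S.sq, mul_one]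
    have e4 : a * z * a = z := by rw [mul_assoc, hza.eq, e1]
    have e5 : a * z * (a * z) = 1 := by rw [← mul_assoc (a * z), e4, S.sq]
    rcases hr with rfl | rfl | rfl | rfl <;> rcases hr' with rfl | rfl | rfl | rfl <;>
      simp [S.sq, S.a_sq, hza.eq, e1, e2, e3, e4, e5]
  inv_mem' := fun {r} hr => by
    have hza : Commute z a := (mem_cent_iff.1 (S.le_cent (S.J_le S.a_mem))).symm
    simp only [Set.mem_setOf_eq] at hr ⊢
    rcases hr with rfl | rfl | rfl | rfl
    · simp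
    · exact Or.inr (Or.inl (inv_eq_of_mul_eq_one_right S.sq))
    · exact Or.inr (Or.inr (Or.inl (inv_eq_of_mul_eq_one_right S.a_sq)))
    · refine Or.inr (Or.inr (Or.inr (inv_eq_of_mul_eq_one_right ?_)))
      rw [show a * z * (a * z) = a * (z * a) * z by group, hza.eq,
        show a * (a * z) * z = (a * a) * (z * z) by group, S.sq, S.a_sq, one_mul]

theorem mem_zsub {S : Setup3 z a J H₀ π} {r : G} :
    r ∈ zsub S ↔ r = 1 ∨ r = z ∨ r = a ∨ r = a * z := Iff.rfl

theorem zsub_le (S : Setup3 z a J H₀ π) : zsub S ≤ J := by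
  intro r hr
  rcases mem_zsub.1 hr with rfl | rfl | rfl | rfl
  exacts [one_mem _, S.z_mem, S.a_mem, mul_mem S.a_mem S.z_mem]

theorem zsub_comm (S : Setup3 z a J H₀ π) {r g : G} (hr : r ∈ zsub S) (hg : g ∈ H₀) :
    Commute r g := by
  have hzg : Commute z g := (mem_cent_iff.1 (S.le_cent hg)).symm
  rcases mem_zsub.1 hr with rfl | rfl | rfl | rfl
  exacts [Commute.one_left _, hzg, S.a_H₀ g hg, (S.a_H₀ g hg).mul_left hzg]

theorem H₀_of_commute (S : Setup3 z a J H₀ π) (sw : Swap z a) {g : G}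
    (hg : g ∈ Subgroup.centralizer ({z} : Set G)) (hga : Commute g a) : g ∈ H₀ := by
  by_contra hn
  obtain ⟨s, hs, hsa⟩ := sw
  have hsn : s ∉ H₀ := fun h => by
    rw [commute_iff_conj.1 (S.a_H₀ s h).symm] at hsa
    exact S.ne_one (mul_eq_left.1 hsa.symm)
  have h1 := commute_iff_conj.1 (S.a_H₀ _ (S.out_mul g hg s hs hn hsn)).symm
  rw [show g * s * a * (g * s)⁻¹ = g * (s * a * s⁻¹) * g⁻¹ by group, hsa,
    show g * (a * z) * g⁻¹ = (g * a * g⁻¹) * (g * z * g⁻¹) by group, commute_iff_conj.1 hga,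
    commute_iff_conj.1 (mem_cent_iff.1 hg)] at h1
  exact S.ne_one (mul_eq_left.1 h1)

theorem conj_of_not_mem (S : Setup3 z a J H₀ π) (sw : Swap z a) {g : G}
    (hg : g ∈ Subgroup.centralizer ({z} : Set G)) (hn : g ∉ H₀) : g * a * g⁻¹ = a * z :=
  (S.conj_a g hg).resolve_left fun h => hn (H₀_of_commute S sw hg (commute_iff_conj.2 h))

theorem dead_az (sw : Swap z a) (hd : Dead z a) : Dead z (a * z) := by
  obtain ⟨s, hs, hsa⟩ := sw
  have hsz := mem_cent_iff.1 hs
  rw [← hsa]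
  have e0 : ∀ g : G, Commute g (s * a * s⁻¹) → Commute (s⁻¹ * g * s) a := fun g hg => by
    have h := hg.map (MulAut.conj s⁻¹).toMonoidHom
    simpa [mul_assoc] using h
  have ez : s⁻¹ * z * s = z := by
    rw [mul_assoc, ← hsz.eq, inv_mul_cancel_left]
  refine ⟨fun g hg hc => ?_, fun P hP hPa hPz p hp => ?_⟩
  · have e : (s⁻¹ * g * s) * z * (s⁻¹ * g * s)⁻¹ = s⁻¹ * (g * z * g⁻¹) * s := by
      rw [show (s⁻¹ * g * s) * z * (s⁻¹ * g * s)⁻¹ = s⁻¹ * g * (s * z) * s⁻¹ * g⁻¹ * s by group,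
        hsz.eq]
      group
    have h1 := hd.1 _ (e0 g hg) (by
      rw [e]
      have h := hc.map (MulAut.conj s⁻¹).toMonoidHom
      simp only [MulEquiv.coe_toMonoidHom, MulAut.conj_apply, inv_inv] at h
      rwa [ez] at h)
    rw [e] at h1
    calc g * z * g⁻¹ = s * (s⁻¹ * (g * z * g⁻¹) * s) * s⁻¹ := by group
      _ = z := by rw [h1, commute_iff_conj.1 hsz]
  · have hmem : ∀ q ∈ P.map (MulAut.conj s⁻¹).toMonoidHom, ∃ p ∈ P, q = s⁻¹ * p * s := by
      rintro q ⟨p, hp, rfl⟩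
      exact ⟨p, hp, by simp⟩
    have h1 := hd.2 (P.map (MulAut.conj s⁻¹).toMonoidHom) (hP.map _)
      (fun q hq => by
        obtain ⟨p, hp, rfl⟩ := hmem q hq
        exact e0 p (hPa p hp))
      (fun q hq => by
        obtain ⟨p, hp, rfl⟩ := hmem q hq
        refine ⟨z * p * z⁻¹, hPz p hp, ?_⟩
        show s⁻¹ * (z * p * z⁻¹) * (s⁻¹)⁻¹ = _
        conv_rhs => rw [← ez]
        group)
      (s⁻¹ * p * s) ⟨p, hp, by simp⟩
    have h2 := h1.map (MulAut.conj s).toMonoidHom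
    simp only [MulEquiv.coe_toMonoidHom, MulAut.conj_apply, commute_iff_conj.1 hsz] at h2
    rwa [show s * (s⁻¹ * p * s) * s⁻¹ = p by group] at h2

theorem exists_noncomm (S : Setup3 z a J H₀ π) : ∃ p ∈ J, ∃ q ∈ J, p * q = q * p * z := by
  by_contra h
  push Not at h
  have hJ : J ≤ zsub S := fun p hp => mem_zsub.2 (S.center p hp fun q hq =>
    (S.comm_mem p hp q hq).resolve_right (h p hp q hq))
  have h4 : Nat.card (zsub S) ≤ 4 := by
    classical
    have : ((zsub S : Subgroup G) : Set G) ⊆ ↑({1, z, a, a * z} : Finset G) := fun r hr => by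
      simpa using mem_zsub.1 hr
    have h' := Set.ncard_le_ncard this (Finset.finite_toSet _)
    rw [Set.ncard_coe_finset, ← Nat.card_coe_set_eq] at h'
    exact h'.trans Finset.card_le_four
  have := (Subgroup.card_le_of_le hJ).trans h4
  rw [S.card_J] at this
  norm_num at this

theorem normal_two (S : Setup3 z a J H₀ π) {N : Subgroup G} (hN : N ≤ H₀)
    (hn : ∀ g ∈ H₀, ∀ p ∈ N, g * p * g⁻¹ ∈ N) (hc : Nat.card N = 2 ^ 10) : N ≤ J := by
  haveI := S.simple_psp
  set P := (N.subgroupOf H₀).map π with hP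
  haveI hPn : P.Normal := by
    refine Subgroup.Normal.map ⟨fun p hp g => ?_⟩ π S.π_surj
    rw [Subgroup.mem_subgroupOf] at hp ⊢
    exact hn g g.2 p hp
  rcases hPn.eq_bot_or_eq_top with h | h
  · intro p hp
    have : π ⟨p, hN hp⟩ ∈ P := ⟨⟨p, hN hp⟩, hp, rfl⟩
    rw [h, Subgroup.mem_bot] at this
    exact (S.π_ker _).1 this
  · exfalso
    have hd : Nat.card P ∣ Nat.card (N.subgroupOf H₀) := Subgroup.card_map_dvd _ _
    rw [h, Subgroup.card_top, S.card_psp,
      Nat.card_congr (Subgroup.subgroupOfEquivOfLe hN).toEquiv, hc] at hd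
    norm_num at hd

/-- `z` is not conjugate to a dead involution of the centre. -/
theorem not_conj_dead (S : Setup3 z a J H₀ π) (sw : Swap z a) {e : G} (he : e = a ∨ e = a * z)
    (hd : Dead z e) (k : G) : k * z * k⁻¹ ≠ e := by
  intro hk
  have heH : ∀ g ∈ H₀, Commute g e := fun g hg =>
    (zsub_comm S (mem_zsub.2 (by rcases he with rfl | rfl <;> simp)) hg).symm
  have hHe : ∀ g, g ∈ Subgroup.centralizer ({z} : Set G) → Commute g e → g ∈ H₀ := by
    intro g hg hge
    rcases he with rfl | rfl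
    · exact H₀_of_commute S sw hg hge
    · refine H₀_of_commute S sw hg ?_
      have := hge.mul_right (mem_cent_iff.1 hg)
      rwa [mul_assoc, S.sq, mul_one] at this
  have hne : e ≠ 1 ∧ e ≠ z := by
    rcases he with rfl | rfl
    · exact S.a_out
    · exact ⟨fun h => S.a_out.2 (by
        rw [eq_inv_of_mul_eq_one_left h, inv_eq_of_mul_eq_one_right S.sq]),
        fun h => S.a_out.1 (mul_eq_right.1 h)⟩
  have hze : Commute z e := (heH z (S.J_le S.z_mem))
  have hy : k⁻¹ * z * k ∈ Subgroup.centralizer ({z} : Set G) := by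
    refine mem_cent_iff.2 ?_
    have h := hze.map (MulAut.conj k⁻¹).toMonoidHom
    rw [← hk] at h
    simpa [mul_assoc] using h
  have hconj : ∀ p ∈ J, Commute (k * p * k⁻¹) e := fun p hp => by
    rw [← hk]
    have h := (mem_cent_iff.1 (S.le_cent (S.J_le hp))).map (MulAut.conj k).toMonoidHom
    simpa using h
  -- `z` centralises the core of the centraliser of `e`
  have hzc : ∀ p ∈ J, Commute (k⁻¹ * z * k) p := by
    intro p hp
    have hJp : IsPGroup 2 (J.map (MulAut.conj k).toMonoidHom) :=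
      (IsPGroup.of_card (n := 10) S.card_J).map _
    have h := hd.2 _ hJp
      (fun q hq => by
        obtain ⟨p, hp, rfl⟩ := hq
        exact hconj p hp)
      (fun q hq => by
        obtain ⟨p, hp, rfl⟩ := hq
        refine ⟨(k⁻¹ * z * k) * p * (k⁻¹ * z * k)⁻¹, S.conj_mem _ hy p hp, ?_⟩
        show k * _ * k⁻¹ = z * (k * p * k⁻¹) * z⁻¹
        group)
      (k * p * k⁻¹) ⟨p, hp, rfl⟩
    have h2 := h.map (MulAut.conj k⁻¹).toMonoidHom
    simpa [mul_assoc] using h2
  have hyJ : k⁻¹ * z * k ∈ J := S.self_cent _ hy hzc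
  have hw : k⁻¹ * z * k = a ∨ k⁻¹ * z * k = a * z := by
    rcases S.center _ hyJ hzc with h | h | h | h
    · exact absurd (by
        calc z = k * (k⁻¹ * z * k) * k⁻¹ := by group
          _ = 1 := by rw [h]; group) S.ne_one
    · exact absurd (by
        calc e = k * z * k⁻¹ := hk.symm
          _ = k * (k⁻¹ * z * k) * k⁻¹ := by rw [h]
          _ = z := by group) hne.2
    · exact Or.inl h
    · exact Or.inr h
  have hmap : H₀.map (MulAut.conj k).toMonoidHom ≤ H₀ := by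
    rintro _ ⟨g, hg, rfl⟩
    have h1 : Commute (k * g * k⁻¹) e := by
      rw [← hk]
      have h := (mem_cent_iff.1 (S.le_cent hg)).map (MulAut.conj k).toMonoidHom
      simpa using h
    refine hHe _ (mem_cent_iff.2 ?_) h1
    have h2 : Commute g (k⁻¹ * z * k) := by
      rcases hw with h | h <;> rw [h]
      · exact (S.a_H₀ g hg).symm
      · exact (S.a_H₀ g hg).symm.mul_right (mem_cent_iff.1 (S.le_cent hg))
    have h3 := h2.map (MulAut.conj k).toMonoidHom
    show Commute (k * g * k⁻¹) z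
    simpa [mul_assoc] using h3
  have heq : H₀.map (MulAut.conj k).toMonoidHom = H₀ :=
    Subgroup.eq_of_le_of_card_ge hmap
      (Subgroup.card_map_of_injective (MulAut.conj k).injective).ge
  have hN : J.map (MulAut.conj k).toMonoidHom ≤ J := by
    refine normal_two S ((Subgroup.map_mono S.J_le).trans hmap) ?_ ?_
    · intro g hg p hp
      obtain ⟨p, hp, rfl⟩ := hp
      rw [← heq] at hg
      obtain ⟨g, hg, rfl⟩ := hg
      refine ⟨g * p * g⁻¹, S.conj_mem g (S.le_cent hg) p hp, ?_⟩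
      simp [mul_assoc]
    · rw [Subgroup.card_map_of_injective (MulAut.conj k).injective, S.card_J]
  obtain ⟨p, hp, q, hq, hpq⟩ := exists_noncomm S
  have h1 : (k * p * k⁻¹) * (k * q * k⁻¹) = (k * q * k⁻¹) * (k * p * k⁻¹) * e := by
    rw [← hk, show (k * p * k⁻¹) * (k * q * k⁻¹) = k * (p * q) * k⁻¹ by group, hpq]
    group
  rcases S.comm_mem _ (hN ⟨p, hp, rfl⟩) _ (hN ⟨q, hq, rfl⟩) with h | h <;>
    simp only [MulEquiv.coe_toMonoidHom, MulAut.conj_apply] at h <;> rw [h1] at h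
  · exact hne.1 (mul_eq_left.1 h)
  · exact hne.2 (mul_left_cancel h)

variable {φ : G → V} {ρ : ↥(Subgroup.centralizer ({z} : Set G)) →* Equiv.Perm V}

/-- The action of the inner half. -/
noncomputable def ρ₀ (S : Setup3 z a J H₀ π)
    (ρ : ↥(Subgroup.centralizer ({z} : Set G)) →* Equiv.Perm V) : ↥H₀ →* Equiv.Perm V :=
  ρ.comp (Subgroup.inclusion S.le_cent)

theorem ρ₀_range (S : Setup3 z a J H₀ π) (N : NatJ z a J H₀ φ ρ) :
    (ρ₀ S ρ).range = uGroup := by
  rw [← N.range₀]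
  ext γ
  constructor
  · rintro ⟨g, rfl⟩
    exact ⟨⟨g, S.le_cent g.2⟩, g.2, rfl⟩
  · rintro ⟨g, hg, rfl⟩
    exact ⟨⟨g, hg⟩, rfl⟩

theorem ρ₀_isom (S : Setup3 z a J H₀ π) (N : NatJ z a J H₀ φ ρ) (g : ↥H₀) :
    ρ₀ S ρ g ∈ isom :=
  uGroup_le_isom (ρ₀_range S N ▸ ⟨g, rfl⟩)

theorem stab_card (S : Setup3 z a J H₀ π) (N : NatJ z a J H₀ φ ρ) {u : V} (hq : qv u = false)
    (hu : u ≠ 0) :
    Nat.card ((MulAction.stabilizer (Equiv.Perm V) u).comap (ρ₀ S ρ)) = 2 ^ 10 * 192 := by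
  classical
  set K := (MulAction.stabilizer (Equiv.Perm V) u).comap (ρ₀ S ρ) with hK
  letI act : MulAction ↥H₀ V := MulAction.compHom V (ρ₀ S ρ)
  have hst : MulAction.stabilizer ↥H₀ u = K := rfl
  have hsmul : ∀ g : ↥H₀, g • u = ρ₀ S ρ g u := fun _ => rfl
  have horb : (MulAction.orbit ↥H₀ u) =
      ↑(Finset.univ.filter fun v : V => qv v = false ∧ v ≠ 0) := by
    ext v
    simp only [Finset.coe_filter, Finset.mem_univ, true_and, Set.mem_setOf_eq]
    constructor
    · rintro ⟨g, rfl⟩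
      have hi := ρ₀_isom S N g
      show qv (ρ₀ S ρ g u) = false ∧ ρ₀ S ρ g u ≠ 0
      refine ⟨by rw [hi.2.2, hq], fun h => hu ((ρ₀ S ρ g).injective ?_)⟩
      rw [h, H39.U6E.lin_zero (isLin_of_isom hi)]
    · rintro ⟨hv, hv0⟩
      obtain ⟨γ, hγ, eγ⟩ := exists_to_v0 hq hu
      obtain ⟨δ, hδ, eδ⟩ := exists_to_v0 hv hv0
      obtain ⟨g, hg⟩ : δ⁻¹ * γ ∈ (ρ₀ S ρ).range := by
        rw [ρ₀_range S N]
        exact mul_mem (inv_mem hδ) hγ
      refine ⟨g, ?_⟩
      show ρ₀ S ρ g u = v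
      rw [hg, Equiv.Perm.mul_apply, eγ, ← eδ]
      exact Equiv.symm_apply_apply δ v
  have hi := MulAction.index_stabilizer ↥H₀ u
  rw [hst, horb, Set.ncard_coe_finset, sing_card] at hi
  have h := K.card_mul_index
  rw [hi, S.card_H₀] at h
  omega

/-- The order of the centraliser in the inner half of a non-central involution of the core. -/
theorem cent_dvd (S : Setup3 z a J H₀ π) (N : NatJ z a J H₀ φ ρ) {x : G} (hx : x ∈ J)
    (hq : qv (φ x) = false) (h0 : φ x ≠ 0) :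
    49152 ∣ Nat.card (H₀ ⊓ Subgroup.centralizer ({x} : Set G) : Subgroup G) := by
  classical
  set K := (MulAction.stabilizer (Equiv.Perm V) (φ x)).comap (ρ₀ S ρ) with hK
  have hmemK : ∀ g : ↥H₀, g ∈ K ↔ φ ((g : G) * x * (g : G)⁻¹) = φ x := by
    intro g
    have h := N.toCore.ρ_φ ⟨g, S.le_cent g.2⟩ x hx
    simp only [hK, Subgroup.mem_comap, MulAction.mem_stabilizer_iff]
    rw [show φ ((g : G) * x * (g : G)⁻¹) = ρ₀ S ρ g (φ x) from h]
    rfl
  have hval : ∀ g : ↥K, x⁻¹ * ((g.1 : G) * x * (g.1 : G)⁻¹) ∈ zsub S := by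
    intro g
    obtain ⟨r, hr, e⟩ := φ_fibre N.toCore (S.conj_mem _ (S.le_cent g.1.2) x hx) hx
      ((hmemK g.1).1 g.2)
    rw [e, inv_mul_cancel_left]
    exact mem_zsub.2 hr
  let χ : ↥K →* G := MonoidHom.mk' (fun g => x⁻¹ * ((g.1 : G) * x * (g.1 : G)⁻¹)) (by
    intro g g'
    show x⁻¹ * (((g * g' : ↥K).1 : G) * x * ((g * g' : ↥K).1 : G)⁻¹) = _
    rw [Subgroup.coe_mul, Subgroup.coe_mul]
    have hc := zsub_comm S (hval g') g.1.2
    calc x⁻¹ * ((g.1 : G) * g'.1 * x * ((g.1 : G) * g'.1)⁻¹)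
        = x⁻¹ * ((g.1 : G) * x * ((x⁻¹ * ((g'.1 : G) * x * (g'.1 : G)⁻¹)) * (g.1 : G)⁻¹)) := by
          group
      _ = x⁻¹ * ((g.1 : G) * x * ((g.1 : G)⁻¹ *
            (x⁻¹ * ((g'.1 : G) * x * (g'.1 : G)⁻¹)))) := by rw [hc.inv_right.eq]
      _ = _ := by group)
  have hker : χ.ker.map (H₀.subtype.comp K.subtype) = H₀ ⊓ Subgroup.centralizer ({x} : Set G) := by
    ext g
    constructor
    · rintro ⟨k, hk, rfl⟩
      refine ⟨k.1.2, mem_cent_iff.2 (commute_iff_conj.2 ?_)⟩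
      exact (inv_mul_eq_one.1 (MonoidHom.mem_ker.1 hk : χ k = 1)).symm
    · rintro ⟨hg, hc⟩
      have e := commute_iff_conj.1 (mem_cent_iff.1 hc)
      refine ⟨⟨⟨g, hg⟩, (hmemK _).2 (by rw [e])⟩, ?_, rfl⟩
      exact MonoidHom.mem_ker.2 (show x⁻¹ * (g * x * g⁻¹) = 1 by rw [e, inv_mul_cancel])
  have hrange : χ.range ≤ zsub S := by
    rintro _ ⟨g, rfl⟩
    exact hval g
  have hd : Nat.card χ.range ∣ 2 ^ 10 := by
    rw [← S.card_J]
    exact Subgroup.card_dvd_of_le (hrange.trans (zsub_le S))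
  have h4 : Nat.card χ.range ≤ 4 := by
    have : ((χ.range : Subgroup G) : Set G) ⊆ ↑({1, z, a, a * z} : Finset G) := fun r hr => by
      simpa using mem_zsub.1 (hrange hr)
    have h' := Set.ncard_le_ncard this (Finset.finite_toSet _)
    rw [Set.ncard_coe_finset, ← Nat.card_coe_set_eq] at h'
    exact h'.trans Finset.card_le_four
  have hmul := card_hom χ
  rw [stab_card S N hq h0] at hmul
  rw [← hker, Subgroup.card_map_of_injective (f := H₀.subtype.comp K.subtype)
    (H₀.subtype_injective.comp K.subtype_injective)]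
  obtain ⟨m, hm⟩ : Nat.card χ.range ∣ 4 := by
    obtain ⟨i, hi, e⟩ := (Nat.dvd_prime_pow Nat.prime_two).1 hd
    rw [e] at h4 ⊢
    have : i ≤ 2 := by
      by_contra hc
      have := Nat.pow_le_pow_right (show 0 < 2 by norm_num) (show 3 ≤ i by omega)
      omega
    exact pow_dvd_pow 2 this
  refine ⟨m, ?_⟩
  have hpos : 0 < Nat.card χ.range := Nat.card_pos
  apply Nat.eq_of_mul_eq_mul_left hpos
  rw [← hmul, show Nat.card χ.range * (49152 * m) = 49152 * (Nat.card χ.range * m) by ring, ← hm]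
  norm_num

end H16.Fi22C
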