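import Cfsg.Agent.H16.Fi22C.SwapTriple
import Cfsg.Agent.H20.Fi22C.Line

/-!
The swap case of S3232 with `z` isolated in `C(a)`: `z` is weakly closed in the centraliser.
-/

set_option autoImplicit false

namespace H16.Fi22C

open H39.Fi22C

/-- The fact on the model. -/
theorem lineKill : LineKill := fun hf hh f2 h2 f16 h16 fh16 hsame =>
  H20.Fi22C.line_kill hf hh f2 h2 f16 h16 fh16 hsame

universe u v

/-- Weak closure, dead swap case. -/
theorem swapDead : SwapDeadStmt.{u, v} := by
  intro G _ _ F _ _ z a J H₀ π φ ρ S N sw hd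
  exact wc_of_lineKill S N sw hd lineKill (swapWCJ S N sw hd)

end H16.Fi22C
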