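import Cfsg.Agent.H16.Fi22C.SwapBase
import Mathlib.GroupTheory.Sylow

/-!
The swap case of S3232 with `z` isolated in `C(a)`: `z` has no other conjugate in the core.
-/

set_option autoImplicit false
set_option maxRecDepth 100000
set_option linter.unusedSectionVars false

namespace H16.Fi22C

open H38.U6C H50.U6C H2.U6E H39.Fi22C H33.U6E.Cert

variable {G : Type*} [Group G] [Finite G] {F : Type*} [Field F] [Fintype F] {z a : G}
  {J H₀ : Subgroup G} {π : ↥H₀ →* Cfsg.PSp 2 F} {φ : G → V}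
  {ρ : ↥(Subgroup.centralizer ({z} : Set G)) →* Equiv.Perm V}

theorem conj_inv_comm {p q k : G} (h : Commute p q) :
    Commute (k⁻¹ * p * k) (k⁻¹ * q * k) := by
  have h' := h.map (MulAut.conj k⁻¹).toMonoidHom
  simpa [mul_assoc] using h'

theorem J_le_cent (S : Setup3 z a J H₀ π) : J ≤ Subgroup.centralizer ({z} : Set G) :=
  S.J_le.trans S.le_cent

/-- The elements of the core centralising `k⁻¹ek` centralise `k⁻¹zk`. -/
theorem dead_use (S : Setup3 z a J H₀ π) {e k : G} (hze : Commute z e) (hd : Dead z e)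
    (hy : k⁻¹ * z * k ∈ Subgroup.centralizer ({z} : Set G)) {p : G} (hp : p ∈ J)
    (hc : Commute (k⁻¹ * e * k) p) : Commute (k⁻¹ * z * k) p := by
  have hP : IsPGroup 2 ((J ⊓ Subgroup.centralizer ({k⁻¹ * e * k} : Set G) : Subgroup G).map
      (MulAut.conj k).toMonoidHom) :=
    ((IsPGroup.of_card (n := 10) S.card_J).to_le inf_le_left).map _
  have h := hd.2 _ hP
    (fun q hq => by
      obtain ⟨p, hp, rfl⟩ := hq
      have h' := (mem_cent_iff.1 hp.2).map (MulAut.conj k).toMonoidHom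
      simpa [mul_assoc] using h')
    (fun q hq => by
      obtain ⟨p, hp, rfl⟩ := hq
      refine ⟨(k⁻¹ * z * k) * p * (k⁻¹ * z * k)⁻¹, ⟨S.conj_mem _ hy p hp.1, mem_cent_iff.2 ?_⟩, ?_⟩
      · have hb : Commute (k⁻¹ * z * k) (k⁻¹ * e * k) := conj_inv_comm hze
        exact (hb.mul_left (mem_cent_iff.1 hp.2)).mul_left hb.inv_left
      · show k * _ * k⁻¹ = z * (k * p * k⁻¹) * z⁻¹
        group)
    (k * p * k⁻¹) ⟨p, ⟨hp, mem_cent_iff.2 hc.symm⟩, rfl⟩
  have h' := h.map (MulAut.conj k⁻¹).toMonoidHom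
  simpa [mul_assoc] using h'

theorem pol_comm' (N : NatJ z a J H₀ φ ρ) {p q : G} (hp : p ∈ J) (hq : q ∈ J) :
    Commute p q ↔ pol (φ p) (φ q) = false := by
  have e := N.toCore.φ_comm p hp q hq
  constructor
  · intro hc
    by_contra h
    rw [Bool.not_eq_false] at h
    rw [h, if_pos rfl, hc.eq] at e
    exact N.toCore.z_ne (mul_eq_left.1 e.symm)
  · intro h
    rw [h] at e
    simp only [Bool.false_eq_true, if_false, mul_one] at e
    exact e

theorem half_card {u : V} (hu : u ≠ 0) :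
    128 ≤ (Finset.univ.filter fun v : V => pol u v = false).card := by
  classical
  obtain ⟨t, ht⟩ : ∃ t, pol u t = true := by
    by_contra h
    push Not at h
    exact hu (H39.U6E.pol_nondeg_bvec u fun i => by simpa using h (H39.U6E.bvec i))
  have h1 : (Finset.univ.filter fun v : V => ¬ pol u v = false).card ≤
      (Finset.univ.filter fun v : V => pol u v = false).card := by
    refine Finset.card_le_card_of_injOn (fun v => vadd v t) ?_ ?_
    · intro v hv
      simp only [Finset.mem_coe, Finset.mem_filter, Finset.mem_univ, true_and,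
        Bool.not_eq_false] at hv ⊢
      rw [H39.U6E.pol_vadd_right, hv, ht]
      rfl
    · intro v _ v' _ e
      have := congrArg (fun w => vadd w t) e
      simpa [H50.U6C.vadd_assoc, H50.U6C.vadd_self, H50.U6C.vadd_zero'] using this
  have h2 := Finset.card_filter_add_card_filter_not (s := (Finset.univ : Finset V))
    (fun v : V => pol u v = false)
  simp only [Finset.card_univ, Fintype.card_fin] at h2
  omega

/-- The hypotheses on an element taking `z` into the core. -/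
structure Pos (S : Setup3 z a J H₀ π) (k : G) : Prop where
  mem : k * z * k⁻¹ ∈ J
  ne : k * z * k⁻¹ ≠ z

namespace Pos

variable {S : Setup3 z a J H₀ π} {k : G}

theorem comm_z (P : Pos S k) : Commute z (k * z * k⁻¹) :=
  (mem_cent_iff.1 (J_le_cent S P.mem)).symm

theorem y_mem (P : Pos S k) : k⁻¹ * z * k ∈ Subgroup.centralizer ({z} : Set G) := by
  refine mem_cent_iff.2 ?_
  have h := conj_inv_comm (k := k) P.comm_z
  simpa [mul_assoc] using h

theorem b_mem (P : Pos S k) {e : G} (he : e = a ∨ e = a * z) :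
    k⁻¹ * e * k ∈ Subgroup.centralizer ({z} : Set G) := by
  refine mem_cent_iff.2 ?_
  have h0 : Commute e (k * z * k⁻¹) :=
    zsub_comm S (mem_zsub.2 (by rcases he with rfl | rfl <;> simp)) (S.J_le P.mem)
  have h := conj_inv_comm (k := k) h0
  simpa [mul_assoc] using h

theorem mul_eq (S : Setup3 z a J H₀ π) (k : G) :
    k⁻¹ * a * k * (k⁻¹ * z * k) = k⁻¹ * (a * z) * k := by group

theorem sq_y (S : Setup3 z a J H₀ π) (k : G) : k⁻¹ * z * k * (k⁻¹ * z * k) = 1 := by
  calc k⁻¹ * z * k * (k⁻¹ * z * k) = k⁻¹ * (z * z) * k := by group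
    _ = 1 := by rw [S.sq]; group

theorem sq_b (S : Setup3 z a J H₀ π) (k : G) : k⁻¹ * a * k * (k⁻¹ * a * k) = 1 := by
  calc k⁻¹ * a * k * (k⁻¹ * a * k) = k⁻¹ * (a * a) * k := by group
    _ = 1 := by rw [S.a_sq]; group

end Pos

section main

variable (S : Setup3 z a J H₀ π) (N : NatJ z a J H₀ φ ρ) (sw : Swap z a) (hd : Dead z a)

include sw hd

theorem dead_of {e : G} (he : e = a ∨ e = a * z) : Dead z e := by
  rcases he with rfl | rfl
  exacts [hd, dead_az sw hd]

include S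

theorem comm_z_of {e : G} (he : e = a ∨ e = a * z) : Commute z e :=
  ((zsub_comm S (mem_zsub.2 (by rcases he with rfl | rfl <;> simp))
    (S.J_le S.z_mem))).symm

theorem b_not_zsub {k : G} (P : Pos S k) {e : G} (he : e = a ∨ e = a * z) :
    k⁻¹ * e * k ∉ zsub S := by
  intro h
  have hb : e = k * (k⁻¹ * e * k) * k⁻¹ := by group
  rcases mem_zsub.1 h with h' | h' | h' | h' <;> rw [h'] at hb
  · rcases he with rfl | rfl
    · exact S.a_out.1 (by rw [hb]; group)
    · refine S.a_out.2 ?_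
      have e1 : a * z = 1 := by rw [hb]; group
      rw [eq_inv_of_mul_eq_one_left e1, inv_eq_of_mul_eq_one_right S.sq]
  · exact not_conj_dead S sw he (dead_of sw hd he) k hb.symm
  all_goals
    obtain ⟨s, hs, hse⟩ : ∃ s ∈ Subgroup.centralizer ({z} : Set G),
        s * e * s⁻¹ = k⁻¹ * e * k := by
      obtain ⟨t, ht, hta⟩ := sw
      have htz := commute_iff_conj.1 (mem_cent_iff.1 ht)
      have htaz : t * (a * z) * t⁻¹ = a := by
        rw [show t * (a * z) * t⁻¹ = (t * a * t⁻¹) * (t * z * t⁻¹) by group, hta, htz, mul_assoc,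
          S.sq, mul_one]
      rw [h']
      rcases he with rfl | rfl
      all_goals first
        | (refine ⟨1, one_mem _, ?_⟩; group; done)
        | exact ⟨t, ht, hta⟩
        | exact ⟨t, ht, htaz⟩
    have h1 : Commute (k * s) e := commute_iff_conj.2 (by
      rw [show k * s * e * (k * s)⁻¹ = k * (s * e * s⁻¹) * k⁻¹ by group, hse]
      group)
    have hxe : k * s * z * (k * s)⁻¹ = k * z * k⁻¹ := by
      rw [show k * s * z * (k * s)⁻¹ = k * (s * z * s⁻¹) * k⁻¹ by group,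
        commute_iff_conj.1 (mem_cent_iff.1 hs)]
    have h2 := (dead_of sw hd he).1 (k * s) h1 (by rw [hxe]; exact P.comm_z.symm)
    rw [hxe] at h2
    exact P.ne h2

theorem y_not_zsub {k : G} (P : Pos S k) : k⁻¹ * z * k ∉ zsub S := by
  intro h
  have hb : z = k * (k⁻¹ * z * k) * k⁻¹ := by group
  rcases mem_zsub.1 h with h' | h' | h' | h' <;> rw [h'] at hb
  · exact S.ne_one (by rw [hb]; group)
  · exact P.ne hb.symm
  · exact not_conj_dead S sw (Or.inl rfl) hd k⁻¹ (by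
      calc k⁻¹ * z * k⁻¹⁻¹ = k⁻¹ * z * k := by group
        _ = a := h')
  · exact not_conj_dead S sw (Or.inr rfl) (dead_az sw hd) k⁻¹ (by
      calc k⁻¹ * z * k⁻¹⁻¹ = k⁻¹ * z * k := by group
        _ = a * z := h')

theorem dead_b {k : G} (P : Pos S k) {e : G} (he : e = a ∨ e = a * z) {p : G} (hp : p ∈ J)
    (hc : Commute (k⁻¹ * e * k) p) : Commute (k⁻¹ * z * k) p :=
  dead_use S (comm_z_of S sw hd he) (dead_of sw hd he) P.y_mem hp hc

theorem y_inner {k : G} (P : Pos S k) : k⁻¹ * z * k ∈ H₀ := by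
  by_contra hn
  have hb : ∀ {e : G}, e = a ∨ e = a * z → k⁻¹ * e * k ∉ H₀ := fun {e} he hb => by
    refine hn (H₀_of_commute S sw P.y_mem ?_)
    exact dead_b S sw hd P he S.a_mem (S.a_H₀ _ hb).symm
  have h := S.out_mul _ (P.b_mem (Or.inl rfl)) _ (P.b_mem (Or.inr rfl)) (hb (Or.inl rfl))
    (hb (Or.inr rfl))
  rw [← Pos.mul_eq S k, ← mul_assoc, Pos.sq_b S k, one_mul] at h
  exact hn h

theorem b_inner {k : G} (P : Pos S k) : k⁻¹ * a * k ∈ H₀ := by
  have hw : k * a * k⁻¹ ∈ Subgroup.centralizer ({z} : Set G) := by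
    refine mem_cent_iff.2 ?_
    have h := ((S.a_H₀ _ (y_inner S sw hd P))).map (MulAut.conj k).toMonoidHom
    simpa [mul_assoc] using h
  rcases S.conj_a _ hw with h | h
  · refine H₀_of_commute S sw (P.b_mem (Or.inl rfl)) ?_
    have h' := conj_inv_comm (k := k) (commute_iff_conj.2 h)
    simpa [mul_assoc] using h'.symm
  · by_contra hn
    have hswap := conj_of_not_mem S sw (P.b_mem (Or.inl rfl)) hn
    have e2 : a * (k⁻¹ * a * k) * a⁻¹ = k⁻¹ * a * k * (k⁻¹ * z * k) := by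
      rw [Pos.mul_eq S k, ← h]
      group
    have ai : a⁻¹ = a := inv_eq_of_mul_eq_one_right S.a_sq
    have bi : (k⁻¹ * a * k)⁻¹ = k⁻¹ * a * k := inv_eq_of_mul_eq_one_right (Pos.sq_b S k)
    refine P.ne ?_
    have e3 : k⁻¹ * z * k = z := by
      have e1 : (k⁻¹ * a * k) * a * (k⁻¹ * a * k) = a * z := by
        rwa [bi] at hswap
      rw [ai] at e2
      calc k⁻¹ * z * k = (k⁻¹ * a * k) * (k⁻¹ * a * k * (k⁻¹ * z * k)) := by
            rw [← mul_assoc, Pos.sq_b S k, one_mul]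
        _ = ((k⁻¹ * a * k) * a * (k⁻¹ * a * k)) * a := by rw [← e2]; group
        _ = z := by
          rw [e1, mul_assoc, (mem_cent_iff.1 (S.le_cent (S.J_le S.a_mem))).symm.eq, ← mul_assoc,
            S.a_sq, one_mul]
    calc k * z * k⁻¹ = k * (k⁻¹ * z * k) * k⁻¹ := by rw [e3]
      _ = z := by group

include N

theorem b_not_J {k : G} (P : Pos S k) {e : G} (he : e = a ∨ e = a * z) :
    k⁻¹ * e * k ∉ J := by
  classical
  intro hbJ
  have h0 : φ (k⁻¹ * e * k) ≠ 0 := fun h =>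
    b_not_zsub S sw hd P he (mem_zsub.2 ((N.toCore.φ_ker _ hbJ).1 h))
  by_cases hyJ : k⁻¹ * z * k ∈ J
  · have hy0 : φ (k⁻¹ * z * k) ≠ 0 := fun h =>
      y_not_zsub S sw hd P (mem_zsub.2 ((N.toCore.φ_ker _ hyJ).1 h))
    have hker : ∀ v, pol (φ (k⁻¹ * e * k)) v = false → pol (φ (k⁻¹ * z * k)) v = false := by
      intro v hv
      obtain ⟨p, hp, rfl⟩ := N.toCore.φ_surj v
      exact (pol_comm' N hyJ hp).1 (dead_b S sw hd P he hp ((pol_comm' N hbJ hp).2 hv))
    obtain ⟨t, ht⟩ : ∃ t, pol (φ (k⁻¹ * e * k)) t = true := by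
      by_contra h
      push Not at h
      exact h0 (H39.U6E.pol_nondeg_bvec _ fun i => by simpa using h (H39.U6E.bvec i))
    have hall : ∀ v, pol (φ (k⁻¹ * z * k)) v =
        (pol (φ (k⁻¹ * e * k)) v && pol (φ (k⁻¹ * z * k)) t) := by
      intro v
      cases hv : pol (φ (k⁻¹ * e * k)) v
      · rw [Bool.false_and]; exact hker v hv
      · have h1 := hker (vadd v t) (by rw [H39.U6E.pol_vadd_right, hv, ht]; rfl)
        rw [H39.U6E.pol_vadd_right] at h1
        cases hx : pol (φ (k⁻¹ * z * k)) v <;> cases hx' : pol (φ (k⁻¹ * z * k)) t <;>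
          simp_all
    cases hx' : pol (φ (k⁻¹ * z * k)) t
    · exact hy0 (H39.U6E.pol_nondeg_bvec _ fun i => by rw [hall, hx', Bool.and_false])
    · have heq : vadd (φ (k⁻¹ * e * k)) (φ (k⁻¹ * z * k)) = 0 :=
        H39.U6E.pol_nondeg_bvec _ fun i => by
          rw [H39.U6E.pol_vadd_left, hall (H39.U6E.bvec i), hx', Bool.and_true, Bool.xor_self]
      rw [← N.toCore.φ_mul _ hbJ _ hyJ] at heq
      have hm := (mem_zsub (S := S)).2 ((N.toCore.φ_ker _ (mul_mem hbJ hyJ)).1 heq)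
      rcases he with rfl | rfl
      · rw [Pos.mul_eq S k] at hm
        exact b_not_zsub S sw hd P (Or.inr rfl) hm
      · rw [← Pos.mul_eq S k, mul_assoc, Pos.sq_y S k, mul_one] at hm
        exact b_not_zsub S sw hd P (Or.inl rfl) hm
  · have hy := y_inner S sw hd P
    have hne : ρ₀ S ρ ⟨_, hy⟩ ≠ 1 := fun h =>
      hyJ ((N.toCore.ρ_ker ⟨_, S.le_cent hy⟩).1 h)
    have hlin := isLin_of_isom (ρ₀_isom S N ⟨_, hy⟩)
    have hle := H33.U6E.lin_fix_le hlin hne
    rw [Nat.card_eq_fintype_card, Fintype.card_subtype] at hle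
    have h128 := half_card h0
    have hsub : (Finset.univ.filter fun v : V => pol (φ (k⁻¹ * e * k)) v = false) ⊆
        Finset.univ.filter fun v : V => ρ₀ S ρ ⟨_, hy⟩ v = v := by
      intro v hv
      rw [Finset.mem_filter] at hv ⊢
      refine ⟨Finset.mem_univ _, ?_⟩
      obtain ⟨p, hp, rfl⟩ := N.toCore.φ_surj v
      have hc := dead_b S sw hd P he hp ((pol_comm' N hbJ hp).2 hv.2)
      have h := N.toCore.ρ_φ ⟨_, S.le_cent hy⟩ p hp
      simp only [commute_iff_conj.1 hc] at h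
      exact h.symm
    have := Finset.card_le_card hsub
    omega

/-- The centraliser of `x` in the inner half, moved back. -/
theorem cent_eq {k : G} (P : Pos S k) :
    Nat.card (Subgroup.centralizer ({z} : Set G) ⊓ Subgroup.centralizer ({k⁻¹ * a * k} : Set G) ⊓
      Subgroup.centralizer ({k⁻¹ * z * k} : Set G) : Subgroup G) =
    Nat.card (H₀ ⊓ Subgroup.centralizer ({k * z * k⁻¹} : Set G) : Subgroup G) := by
  rw [← Subgroup.card_map_of_injective
    (K := H₀ ⊓ Subgroup.centralizer ({k * z * k⁻¹} : Set G))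
    (f := (MulAut.conj k⁻¹).toMonoidHom) (MulAut.conj k⁻¹).injective]
  refine congrArg (fun X : Subgroup G => Nat.card X) ?_
  ext g
  constructor
  · rintro ⟨⟨hz', hb⟩, hy⟩
    have hb' := (mem_cent_iff.1 hb).map (MulAut.conj k).toMonoidHom
    have hy' := (mem_cent_iff.1 hy).map (MulAut.conj k).toMonoidHom
    have hx' := (mem_cent_iff.1 hz').map (MulAut.conj k).toMonoidHom
    simp [mul_assoc] at hb' hy' hx'
    refine ⟨k * g * k⁻¹, ⟨H₀_of_commute S sw (mem_cent_iff.2 ?_) ?_, mem_cent_iff.2 ?_⟩, ?_⟩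
    · simpa [mul_assoc] using hy'
    · simpa [mul_assoc] using hb'
    · simpa [mul_assoc] using hx'
    · simp [mul_assoc]
  · rintro ⟨h, ⟨hH, hx⟩, rfl⟩
    have h1 := conj_inv_comm (k := k) (S.a_H₀ h hH).symm
    have h2 := conj_inv_comm (k := k) (mem_cent_iff.1 (S.le_cent hH))
    have h3 := conj_inv_comm (k := k) (mem_cent_iff.1 hx)
    refine ⟨⟨mem_cent_iff.2 ?_, mem_cent_iff.2 ?_⟩, mem_cent_iff.2 ?_⟩
    · simpa [mul_assoc] using h3
    · simpa [mul_assoc] using h1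
    · simpa [mul_assoc] using h2

/-- Counting two-parts: `k⁻¹ak` fixes sixty-four vectors, all fixed by `k⁻¹zk`, which is in `J`. -/
theorem shape {k : G} (P : Pos S k) :
    49152 ∣ Nat.card (Subgroup.centralizer ({z} : Set G) ⊓
      Subgroup.centralizer ({k⁻¹ * a * k} : Set G) ⊓
      Subgroup.centralizer ({k⁻¹ * z * k} : Set G) : Subgroup G) ∧
    k⁻¹ * z * k ∈ J ∧
    (Finset.univ.filter fun v : V => ρ₀ S ρ ⟨_, b_inner S sw hd P⟩ v = v).card = 64 := by
  classical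
  have hx0 : φ (k * z * k⁻¹) ≠ 0 := by
    intro h
    rcases (N.toCore.φ_ker _ P.mem).1 h with h' | h' | h' | h'
    · exact S.ne_one (by
        calc z = k⁻¹ * (k * z * k⁻¹) * k := by group
          _ = 1 := by rw [h']; group)
    · exact P.ne h'
    · exact not_conj_dead S sw (Or.inl rfl) hd k h'
    · exact not_conj_dead S sw (Or.inr rfl) (dead_az sw hd) k h'
  have hxq : qv (φ (k * z * k⁻¹)) = false := by
    by_contra h
    rw [Bool.not_eq_false] at h
    have e := N.toCore.φ_sq _ P.mem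
    rw [h, if_pos rfl, show k * z * k⁻¹ * (k * z * k⁻¹) = k * (z * z) * k⁻¹ by group, S.sq,
      mul_one, mul_inv_cancel] at e
    exact S.ne_one e.symm
  have hM : 49152 ∣ Nat.card (Subgroup.centralizer ({z} : Set G) ⊓
      Subgroup.centralizer ({k⁻¹ * a * k} : Set G) ⊓
      Subgroup.centralizer ({k⁻¹ * z * k} : Set G) : Subgroup G) := by
    rw [cent_eq S N sw hd P]
    exact cent_dvd S N P.mem hxq hx0
  set M := Subgroup.centralizer ({z} : Set G) ⊓
      Subgroup.centralizer ({k⁻¹ * a * k} : Set G) ⊓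
      Subgroup.centralizer ({k⁻¹ * z * k} : Set G) with hMdef
  haveI : Fact (Nat.Prime 2) := ⟨Nat.prime_two⟩
  obtain ⟨Q, hQ⟩ := Sylow.exists_subgroup_card_pow_prime (G := ↥M) 2 (n := 14)
    ((show (2 : ℕ) ^ 14 ∣ 49152 by norm_num).trans hM)
  have hMC : M ≤ Subgroup.centralizer ({z} : Set G) := inf_le_left.trans inf_le_left
  let θ : ↥Q →* Equiv.Perm V := ρ.comp ((Subgroup.inclusion hMC).comp Q.subtype)
  have hsplit := card_hom θ
  have hr1 : Nat.card θ.range ∣ 2 ^ 14 := by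
    rw [← hQ, hsplit]; exact dvd_mul_right _ _
  have hr2 : Nat.card θ.range ∣ 51840 := by
    have h1 : Nat.card θ.range ∣ Nat.card ρ.range := Subgroup.card_dvd_of_le (by
      rintro _ ⟨q, rfl⟩
      exact ⟨_, rfl⟩)
    have h2 := card_hom ρ
    have hkerρ : ρ.ker.map (Subgroup.centralizer ({z} : Set G)).subtype = J := by
      ext g
      constructor
      · rintro ⟨c, hc, rfl⟩
        exact (N.toCore.ρ_ker c).1 (MonoidHom.mem_ker.1 hc)
      · intro hg
        exact ⟨⟨g, J_le_cent S hg⟩, MonoidHom.mem_ker.2 ((N.toCore.ρ_ker _).2 hg), rfl⟩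
    have h3 : Nat.card ρ.ker = 2 ^ 10 := by
      rw [← S.card_J, ← hkerρ, Subgroup.card_map_of_injective
        (Subgroup.centralizer ({z} : Set G)).subtype_injective]
    rw [S.card_cent, h3] at h2
    rw [show Nat.card ρ.range = 51840 by omega] at h1
    exact h1
  have hr : Nat.card θ.range ≤ 128 :=
    Nat.le_of_dvd (by norm_num)
      ((Nat.dvd_gcd hr1 hr2).trans (by norm_num : Nat.gcd (2 ^ 14) 51840 ∣ 128))
  set CJ := {p | p ∈ J ∧ Commute (k⁻¹ * a * k) p} with hCJ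
  have hker : Nat.card θ.ker ≤ CJ.ncard := by
    rw [← Nat.card_coe_set_eq]
    refine Nat.card_le_card_of_injective (fun q => ⟨((q.1.1 : ↥M) : G), ?_, ?_⟩) ?_
    · exact (N.toCore.ρ_ker _).1 (MonoidHom.mem_ker.1 q.2)
    · exact (mem_cent_iff.1 q.1.1.2.1.2).symm
    · intro q q' e
      exact Subtype.ext (Subtype.ext (Subtype.ext (congrArg Subtype.val e :)))
  have hCJ128 : 128 ≤ CJ.ncard := by
    rw [hQ] at hsplit
    have := Nat.mul_le_mul hr hker
    omega
  set f := ρ₀ S ρ ⟨_, b_inner S sw hd P⟩ with hf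
  set h := ρ₀ S ρ ⟨_, y_inner S sw hd P⟩ with hh
  have hfl : IsLin f := isLin_of_isom (ρ₀_isom S N _)
  have hhl : IsLin h := isLin_of_isom (ρ₀_isom S N _)
  have hfne : f ≠ 1 := fun e =>
    b_not_J S N sw hd P (Or.inl rfl) ((N.toCore.ρ_ker ⟨_, S.le_cent (b_inner S sw hd P)⟩).1 e)
  set T := Finset.univ.filter fun v : V => f v = v ∧ h v = v with hT
  have hCT : CJ.ncard ≤ 4 * T.card := by
    refine (Set.ncard_le_ncard (fun p hp => ?_) (Set.toFinite _)).trans
      (ncard_preimage N.toCore T)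
    refine ⟨hp.1, Finset.mem_filter.2 ⟨Finset.mem_univ _, ?_, ?_⟩⟩
    · have e := N.toCore.ρ_φ ⟨_, S.le_cent (b_inner S sw hd P)⟩ p hp.1
      simp only [commute_iff_conj.1 hp.2] at e
      exact e.symm
    · have e := N.toCore.ρ_φ ⟨_, S.le_cent (y_inner S sw hd P)⟩ p hp.1
      simp only [commute_iff_conj.1 (dead_b S sw hd P (Or.inl rfl) hp.1 hp.2)] at e
      exact e.symm
  have hTc : Closed T := by
    refine ⟨Finset.mem_filter.2 ⟨Finset.mem_univ _, H39.U6E.lin_zero hfl,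
      H39.U6E.lin_zero hhl⟩, fun u hu v hv => ?_, fun c u hu => ?_⟩ <;>
      rw [hT, Finset.mem_filter] at * <;> refine ⟨Finset.mem_univ _, ?_, ?_⟩
    · rw [hfl.add, hu.2.1, hv.2.1]
    · rw [hhl.add, hu.2.2, hv.2.2]
    · rw [hfl.smul, hu.2.1]
    · rw [hhl.smul, hu.2.2]
  obtain ⟨hall, h64⟩ := closed_full hfl hfne (S := T)
    (fun v hv => (Finset.mem_filter.1 hv).2.1) hTc (by omega)
  have hFT : (Finset.univ.filter fun v : V => f v = v) = T := by
    ext v
    simp only [Finset.mem_filter, Finset.mem_univ, true_and]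
    exact ⟨hall v, fun hv => (Finset.mem_filter.1 hv).2.1⟩
  refine ⟨hM, ?_, by rw [hFT, h64]⟩
  by_contra hyJ
  have hne : h ≠ 1 := fun e =>
    hyJ ((N.toCore.ρ_ker ⟨_, S.le_cent (y_inner S sw hd P)⟩).1 e)
  have hff : f * f = 1 := by
    rw [hf, ← map_mul, ← (ρ₀ S ρ).map_one]
    exact congrArg _ (Subtype.ext (Pos.sq_b S k))
  have heq : h = f := eq_of_same_fix hfl hhl hff (by rw [hFT, h64])
    (fun v hv => (Finset.mem_filter.1 (hall v hv)).2.2) hne
  refine b_not_J S N sw hd P (e := a * z) (Or.inr rfl) ?_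
  rw [← Pos.mul_eq S k]
  refine (N.toCore.ρ_ker ⟨_, S.le_cent (mul_mem (b_inner S sw hd P) (y_inner S sw hd P))⟩).1 ?_
  show ρ₀ S ρ (⟨_, b_inner S sw hd P⟩ * ⟨_, y_inner S sw hd P⟩) = 1
  rw [map_mul, ← hf, ← hh, heq, hff]

/-- `k⁻¹zk` has its image moved to `v0`: contradiction. -/
theorem no_pos_base {k : G} (P : Pos S k) (hv0 : φ (k⁻¹ * z * k) = v0) : False := by
  classical
  obtain ⟨hM, hyJ, h64⟩ := shape S N sw hd P
  have hbH := b_inner S sw hd P
  set b := k⁻¹ * a * k with hb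
  set y := k⁻¹ * z * k with hy
  set f := ρ₀ S ρ ⟨b, hbH⟩ with hf
  have hfl : IsLin f := isLin_of_isom (ρ₀_isom S N _)
  have hbb : b * b = 1 := Pos.sq_b S k
  have hbi : b⁻¹ = b := inv_eq_of_mul_eq_one_right hbb
  have hff : f * f = 1 := by
    rw [hf, ← map_mul, ← (ρ₀ S ρ).map_one]
    exact congrArg _ (Subtype.ext hbb)
  have hfne : f ≠ 1 := fun e =>
    b_not_J S N sw hd P (Or.inl rfl) ((N.toCore.ρ_ker ⟨_, S.le_cent hbH⟩).1 e)
  -- everything centralising `b` in the centraliser of `z` centralises `y`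
  have hby : ∀ g, g ∈ Subgroup.centralizer ({z} : Set G) → Commute g b → Commute g y := by
    intro g hg hgb
    have e1 : Commute (k * g * k⁻¹) a := by
      have h := hgb.map (MulAut.conj k).toMonoidHom
      simpa [hb, mul_assoc] using h
    have e2 : Commute (k * g * k⁻¹ * z * (k * g * k⁻¹)⁻¹) z := by
      have hm : g * y * g⁻¹ ∈ J := S.conj_mem g hg y hyJ
      have hc : Commute (k⁻¹ * a * k) (g * y * g⁻¹) := by
        have h := (conj_inv_comm (k := k) (comm_z_of S sw hd (Or.inl rfl)).symm).map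
          (MulAut.conj g).toMonoidHom
        simp only [MulEquiv.coe_toMonoidHom, MulAut.conj_apply] at h
        rw [← hb, ← hy, commute_iff_conj.1 hgb] at h
        exact h
      have h := ((dead_b S sw hd P (Or.inl rfl) hm hc).symm).map (MulAut.conj k).toMonoidHom
      simpa [hy, mul_assoc] using h
    have e3 := hd.1 _ e1 e2
    refine commute_iff_conj.2 ?_
    calc g * y * g⁻¹ = k⁻¹ * (k * g * k⁻¹ * z * (k * g * k⁻¹)⁻¹) * k := by rw [hy]; group
      _ = y := by rw [e3]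
  -- the stabiliser of `v0` and its part centralising `b`
  set K := (MulAction.stabilizer (Equiv.Perm V) v0).comap (ρ₀ S ρ) with hK
  have hKcard : Nat.card K = 2 ^ 10 * 192 := stab_card S N base_facts.1 base_facts.2.2.2.2.2.2.1
  set W : Subgroup ↥H₀ := (Subgroup.centralizer ({b} : Set G)).subgroupOf H₀ with hW
  have hWK : W ≤ K := by
    intro g hg
    rw [hW, Subgroup.mem_subgroupOf, mem_cent_iff] at hg
    rw [hK, Subgroup.mem_comap, MulAction.mem_stabilizer_iff]
    have e := N.toCore.ρ_φ ⟨g, S.le_cent g.2⟩ y hyJ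
    simp only [commute_iff_conj.1 (hby g (S.le_cent g.2) hg), hv0] at e
    exact e.symm
  set St := K.map (ρ₀ S ρ) with hSt
  set R := W.map (ρ₀ S ρ) with hR
  have hkerJ : (ρ₀ S ρ).ker = J.subgroupOf H₀ := by
    ext g
    rw [MonoidHom.mem_ker, Subgroup.mem_subgroupOf]
    exact N.toCore.ρ_ker ⟨g, S.le_cent g.2⟩
  have hStcard : Nat.card St = 192 := by
    have h := card_hom ((ρ₀ S ρ).comp K.subtype)
    have hr : ((ρ₀ S ρ).comp K.subtype).range = St := by
      rw [hSt, MonoidHom.range_comp, Subgroup.range_subtype]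
    have hk : Nat.card ((ρ₀ S ρ).comp K.subtype).ker = 2 ^ 10 := by
      rw [← Subgroup.card_map_of_injective (f := H₀.subtype.comp K.subtype)
        (H₀.subtype_injective.comp K.subtype_injective), ← S.card_J]
      refine congrArg (fun X : Subgroup G => Nat.card X) ?_
      ext g
      constructor
      · rintro ⟨q, hq, rfl⟩
        exact (N.toCore.ρ_ker _).1 (MonoidHom.mem_ker.1 hq)
      · intro hg
        have h1 : ρ₀ S ρ ⟨g, S.J_le hg⟩ = 1 := (N.toCore.ρ_ker _).2 hg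
        refine ⟨⟨⟨g, S.J_le hg⟩, ?_⟩, MonoidHom.mem_ker.2 h1, rfl⟩
        rw [hK, Subgroup.mem_comap, MulAction.mem_stabilizer_iff, h1]
        rfl
    rw [hr, hk, hKcard] at h
    omega
  have hRcard : 96 ≤ Nat.card R := by
    have hM' := Nat.le_of_dvd Nat.card_pos hM
    have h := card_hom ((ρ₀ S ρ).comp W.subtype)
    have hr : ((ρ₀ S ρ).comp W.subtype).range = R := by
      rw [hR, MonoidHom.range_comp, Subgroup.range_subtype]
    rw [hr] at h
    set CJ := {p | p ∈ J ∧ Commute b p} with hCJ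
    have hk : Nat.card ((ρ₀ S ρ).comp W.subtype).ker ≤ CJ.ncard := by
      rw [← Nat.card_coe_set_eq]
      refine Nat.card_le_card_of_injective (fun q => ⟨((q.1.1 : ↥H₀) : G), ?_, ?_⟩) ?_
      · exact (N.toCore.ρ_ker _).1 (MonoidHom.mem_ker.1 q.2)
      · exact (mem_cent_iff.1 q.1.2).symm
      · intro q q' e
        exact Subtype.ext (Subtype.ext (Subtype.ext (congrArg Subtype.val e :)))
    have hCJ256 : CJ.ncard ≤ 256 := by
      refine (Set.ncard_le_ncard (fun p hp => ?_) (Set.toFinite _)).trans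
        ((ncard_preimage N.toCore (Finset.univ.filter fun v : V => f v = v)).trans (by rw [h64]))
      refine ⟨hp.1, Finset.mem_filter.2 ⟨Finset.mem_univ _, ?_⟩⟩
      have e := N.toCore.ρ_φ ⟨_, S.le_cent hbH⟩ p hp.1
      simp only [commute_iff_conj.1 hp.2] at e
      exact e.symm
    -- the inner half of the centraliser has index at most two
    have hMW : Nat.card (Subgroup.centralizer ({z} : Set G) ⊓
        Subgroup.centralizer ({b} : Set G) ⊓ Subgroup.centralizer ({y} : Set G) : Subgroup G) ≤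
        2 * Nat.card W := by
      set M := Subgroup.centralizer ({z} : Set G) ⊓ Subgroup.centralizer ({b} : Set G) ⊓
        Subgroup.centralizer ({y} : Set G) with hMd
      by_cases hall : ∀ g ∈ M, g ∈ H₀
      · refine le_trans (Nat.card_le_card_of_injective
          (fun g : ↥M => (⟨⟨g, hall g g.2⟩, g.2.1.2⟩ : ↥W)) ?_) (by omega)
        intro g g' e
        exact Subtype.ext (congrArg (fun w : ↥W => ((w.1 : ↥H₀) : G)) e)
      · push Not at hall
        obtain ⟨g0, hg0, hn⟩ := hall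
        rw [show 2 = Nat.card Bool by simp, mul_comm, ← Nat.card_prod]
        let F' : ↥M → ↥W × Bool := fun g => if hg : (g : G) ∈ H₀ then (⟨⟨g, hg⟩, g.2.1.2⟩, true)
          else (⟨⟨g0 * g, S.out_mul g0 hg0.1.1 g g.2.1.1 hn hg⟩,
            mul_mem hg0.1.2 g.2.1.2⟩, false)
        refine Nat.card_le_card_of_injective F' ?_
        intro g g' e
        simp only [F'] at e
        by_cases h1 : (g : G) ∈ H₀ <;> by_cases h2 : (g' : G) ∈ H₀ <;> simp [h1, h2] at e
        · exact Subtype.ext (congrArg (fun w : ↥W => ((w.1 : ↥H₀) : G)) e)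
        · exact Subtype.ext (mul_left_cancel (congrArg (fun w : ↥W => ((w.1 : ↥H₀) : G)) e))
    have hh : Nat.card W ≤ Nat.card R * 256 := by
      rw [h]; exact Nat.mul_le_mul_left _ (hk.trans hCJ256)
    omega
  have hRSt : R ≤ St := Subgroup.map_mono hWK
  have hsq : ∀ γ ∈ St, γ * γ ∈ R := by
    intro γ hγ
    have hidx := (R.subgroupOf St).card_mul_index
    rw [Nat.card_congr (Subgroup.subgroupOfEquivOfLe hRSt).toEquiv, hStcard] at hidx
    have hle : (R.subgroupOf St).index ≤ 2 := by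
      by_contra hc
      have := Nat.mul_le_mul hRcard (show 3 ≤ (R.subgroupOf St).index by omega)
      omega
    have hpos : (R.subgroupOf St).index ≠ 0 := fun e => by rw [e] at hidx; omega
    rcases (show (R.subgroupOf St).index = 1 ∨ (R.subgroupOf St).index = 2 by omega) with e | e
    · have := Subgroup.index_eq_one.1 e
      have hm : (⟨γ, hγ⟩ * ⟨γ, hγ⟩ : ↥St) ∈ R.subgroupOf St := this ▸ Subgroup.mem_top _
      exact hm
    · exact Subgroup.mul_self_mem_of_index_two e ⟨γ, hγ⟩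
  -- elements realising a square in the stabiliser
  have hlift : ∀ j k' : Fin 45, sg j k' v0 = v0 → (∀ v, (tv j * tv k') v = tvFun j (tvFun k' v)) →
      (tv j * tv k') v0 = v0 → ∃ g : ↥H₀, Commute (g : G) b ∧
        ∀ v, ρ₀ S ρ g v = sg j k' v := by
    intro j k' _ _ hfix
    have hmem : tv j * tv k' ∈ uGroup := mul_mem (Subgroup.subset_closure ⟨j, rfl⟩)
      (Subgroup.subset_closure ⟨k', rfl⟩)
    rw [← ρ₀_range S N] at hmem
    obtain ⟨g, hg⟩ := hmem
    have hgK : g ∈ K := by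
      rw [hK, Subgroup.mem_comap, MulAction.mem_stabilizer_iff, hg]
      exact hfix
    obtain ⟨w, hw, ew⟩ := hsq _ ⟨g, hgK, hg⟩
    exact ⟨w, mem_cent_iff.1 hw, fun v => by rw [ew]; rfl⟩
  have htv : ∀ j k' : Fin 45, ∀ v, (tv j * tv k') v = tvFun j (tvFun k' v) := fun _ _ _ => rfl
  obtain ⟨g₁, hg₁, e₁⟩ := hlift 15 25 sg_fix.1 (htv 15 25) (by decide +kernel)
  obtain ⟨g₂, hg₂, e₂⟩ := hlift 15 26 sg_fix.2.1 (htv 15 26) (by decide +kernel)
  obtain ⟨g₃, hg₃, e₃⟩ := hlift 15 34 sg_fix.2.2 (htv 15 34) (by decide +kernel)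
  have hcommf : ∀ g : ↥H₀, Commute (g : G) b → ∀ v, ρ₀ S ρ g (f v) = f (ρ₀ S ρ g v) := by
    intro g hg v
    have : g * ⟨b, hbH⟩ = ⟨b, hbH⟩ * g := Subtype.ext hg.eq
    have := congrArg (ρ₀ S ρ) this
    rw [map_mul, map_mul] at this
    exact DFunLike.congr_fun this v
  -- the fixed vectors of `f`
  obtain ⟨d, hd0, hdq, hline, hperp⟩ := axis hfl hff h64
  have hdline : ∀ g : ↥H₀, Commute (g : G) b → ∃ c : Fin 4, ρ₀ S ρ g d = smul4 c d := by
    intro g hg
    obtain ⟨u, hu⟩ : ∃ u, vadd u (f u) ≠ 0 := by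
      by_contra h
      push Not at h
      exact hfne (Equiv.ext fun u => (H33.U6E.vadd_eq_zero (h u)).symm)
    obtain ⟨c, hc⟩ := hline u
    obtain ⟨c', hc'⟩ := hline (ρ₀ S ρ g u)
    have hgl := isLin_of_isom (ρ₀_isom S N g)
    rw [← hcommf g hg, ← hgl.add, hc, hgl.smul] at hc'
    have hc0 : (c : ℕ) ≠ 0 := fun e => hu (by rw [hc, e, smul4_zero_left])
    obtain ⟨e, he4, hec⟩ := (show ∀ c < 4, c ≠ 0 → ∃ e < 4, fmul e c = 1 by decide) _ c.2 hc0
    have := congrArg (smul4 e) hc'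
    rw [smul4_smul4 he4 c.2, hec, smul4_one, smul4_smul4 he4 c'.2] at this
    exact ⟨⟨_, fmul_lt _ _⟩, this⟩
  have hdv : ∃ c : Fin 4, d = smul4 c v0 := by
    by_contra hno
    push Not at hno
    rcases moved d hdq hd0 hno with h | h
    · obtain ⟨c, hc⟩ := hdline g₁ hg₁
      rw [e₁] at hc
      exact h c hc
    · obtain ⟨c, hc⟩ := hdline g₂ hg₂
      rw [e₂] at hc
      exact h c hc
  obtain ⟨c₀, hc₀⟩ := hdv
  have hfix : ∀ v, f v = v ↔ herm v0 v = 0 := by
    have hsub : (Finset.univ.filter fun v : V => f v = v) ⊆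
        Finset.univ.filter fun v : V => herm v0 v = 0 := by
      intro v hv
      rw [Finset.mem_filter] at hv ⊢
      refine ⟨Finset.mem_univ _, ?_⟩
      have e := hperp v hv.2
      rw [hc₀, herm_smul_left c₀.2] at e
      have hc00 : (c₀ : ℕ) ≠ 0 := fun e' => hd0 (by rw [hc₀, e', smul4_zero_left])
      exact (show ∀ c < 4, c ≠ 0 → ∀ t < 4, fmul (fconj c) t = 0 → t = 0 by decide) _ c₀.2 hc00 _
        (herm_lt v0 v) e
    have heq := Finset.eq_of_subset_of_card_le hsub (by rw [h64, hperp_card])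
    intro v
    have := Finset.ext_iff.1 heq v
    simpa using this
  -- `b` centralises the preimage of the fixed vectors
  have hbz : ∀ r ∈ zsub S, Commute b r := fun r hr => (zsub_comm S hr hbH).symm
  have hcomm : ∀ w, herm v0 w = 0 → ∀ p ∈ J, φ p = w → Commute b p := by
    intro w hw
    refine forall_perp (fun w => ∀ p ∈ J, φ p = w → Commute b p) ?_ ?_ ?_ hw
    · intro p hp e
      exact hbz p (mem_zsub.2 ((N.toCore.φ_ker p hp).1 e))
    · intro u v hu hv p hp e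
      obtain ⟨p₁, hp₁, e₁⟩ := N.toCore.φ_surj u
      obtain ⟨p₂, hp₂, e₂⟩ := N.toCore.φ_surj v
      obtain ⟨r, hr, rfl⟩ := φ_fibre N.toCore hp (mul_mem hp₁ hp₂)
        (by rw [N.toCore.φ_mul _ hp₁ _ hp₂, e₁, e₂, e])
      exact ((hu p₁ hp₁ e₁).mul_right (hv p₂ hp₂ e₂)).mul_right (hbz r (mem_zsub.2 hr))
    · intro w hw p hp e
      have key : ∀ (j k' : Fin 45) (g : ↥H₀), Commute (g : G) b →
          (∀ v, ρ₀ S ρ g v = sg j k' v) → ∀ w₁, herm v0 w₁ = 0 →
          φ p = vadd w₁ (sg j k' w₁) → Commute b p := by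
        intro j k' g hg eg w₁ hw₁ e'
        obtain ⟨q, hq, eq⟩ := N.toCore.φ_surj w₁
        have hbq : φ (b * q * b⁻¹) = φ q := by
          rw [show φ (b * q * b⁻¹) = f (φ q) from N.toCore.ρ_φ ⟨b, S.le_cent hbH⟩ q hq, eq]
          exact (hfix _).2 hw₁
        obtain ⟨r, hr, er⟩ := φ_fibre N.toCore (S.conj_mem b (S.le_cent hbH) q hq) hq hbq
        have hgq := S.conj_mem g (S.le_cent g.2) q hq
        have hc : Commute b (q⁻¹ * ((g : G) * q * (g : G)⁻¹)) := by
          refine commute_iff_conj.2 ?_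
          have e2 : b * ((g : G) * q * (g : G)⁻¹) * b⁻¹ = (g : G) * q * (g : G)⁻¹ * r := by
            have hgr : Commute r (g : G) := zsub_comm S (mem_zsub.2 hr) g.2
            calc b * ((g : G) * q * (g : G)⁻¹) * b⁻¹
                = (b * g) * q * (b * g)⁻¹ := by group
              _ = ((g : G) * b) * q * ((g : G) * b)⁻¹ := by rw [hg.eq]
              _ = (g : G) * (q * r) * (g : G)⁻¹ := by rw [← er]; group
              _ = (g : G) * q * (r * (g : G)⁻¹) := by group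
              _ = _ := by rw [hgr.inv_right.eq]; group
          have hrq : Commute r q⁻¹ := (zsub_comm S (mem_zsub.2 hr) (S.J_le hq)).inv_right
          calc b * (q⁻¹ * ((g : G) * q * (g : G)⁻¹)) * b⁻¹
              = (b * q * b⁻¹)⁻¹ * (b * ((g : G) * q * (g : G)⁻¹) * b⁻¹) := by group
            _ = r⁻¹ * q⁻¹ * ((g : G) * q * (g : G)⁻¹ * r) := by rw [er, e2, mul_inv_rev]
            _ = q⁻¹ * (r⁻¹ * ((g : G) * q * (g : G)⁻¹)) * r := by
                rw [hrq.inv_left.eq]; group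
            _ = q⁻¹ * ((g : G) * q * (g : G)⁻¹) := by
                rw [((zsub_comm S (mem_zsub.2 hr) (S.J_le hgq)).inv_left).eq]; group
        obtain ⟨r', hr', rfl⟩ := φ_fibre N.toCore hp (mul_mem (inv_mem hq) hgq) (by
          rw [e', N.toCore.φ_mul _ (inv_mem hq) _ hgq, φ_inv N.toCore hq,
            show φ ((g : G) * q * (g : G)⁻¹) = ρ₀ S ρ g (φ q) from
              N.toCore.ρ_φ ⟨g, S.le_cent g.2⟩ q hq, eg, eq])
        exact hc.mul_right (hbz r' (mem_zsub.2 hr'))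
      simp only [gen, List.mem_cons, List.not_mem_nil, or_false] at hw
      obtain ⟨⟨h3, h1⟩, h8, h12⟩ := gen_mem
      rcases hw with rfl | rfl | rfl | rfl | rfl | rfl
      · exact key _ _ g₁ hg₁ e₁ _ h3 e
      · exact key _ _ g₁ hg₁ e₁ _ h1 e
      · exact key _ _ g₁ hg₁ e₁ _ h8 e
      · exact key _ _ g₁ hg₁ e₁ _ h12 e
      · exact key _ _ g₃ hg₃ e₃ _ h3 e
      · exact key _ _ g₂ hg₂ e₂ _ h3 e
  -- an element over a transformation sending `v0` to its `ω`-multiple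
  obtain ⟨γ, hγ, eγ⟩ := exists_run [1, 6, 8]
  rw [← ρ₀_range S N] at hγ
  obtain ⟨g, rfl⟩ := hγ
  have hgv : ρ₀ S ρ g v0 = smul4 2 v0 := (eγ v0).trans word_move
  have hgl := isLin_of_isom (ρ₀_isom S N g)
  have hgperp : ∀ v, herm v0 (ρ₀ S ρ g v) = 0 ↔ herm v0 v = 0 := by
    intro v
    have e := hgl.herm_eq v0 v
    rw [hgv, herm_smul_left (by norm_num)] at e
    rw [← e]
    exact ⟨fun h => by rw [h]; rfl, fun h =>
      (show ∀ t < 4, fmul (fconj 2) t = 0 → t = 0 by decide) _ (herm_lt _ _) h⟩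
  have hgf : ρ₀ S ρ g * f * (ρ₀ S ρ g)⁻¹ = f := by
    refine eq_of_same_fix hfl (isLin_of_isom (mul_mem (mul_mem (ρ₀_isom S N g)
      (ρ₀_isom S N ⟨b, hbH⟩)) (inv_mem (ρ₀_isom S N g)))) hff h64 ?_ ?_
    · intro v hv
      have h1 : f ((ρ₀ S ρ g)⁻¹ v) = (ρ₀ S ρ g)⁻¹ v := by
        refine (hfix _).2 ((hgperp _).1 ?_)
        rw [show ρ₀ S ρ g ((ρ₀ S ρ g)⁻¹ v) = v from Equiv.apply_symm_apply _ v]
        exact (hfix v).1 hv
      show ρ₀ S ρ g (f ((ρ₀ S ρ g)⁻¹ v)) = v
      rw [h1]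
      exact Equiv.apply_symm_apply _ v
    · intro e
      exact hfne (conj_eq_one_iff.1 e)
  set j := b * ((g : G) * b * (g : G)⁻¹) with hj
  have hjJ : j ∈ J := by
    refine (N.toCore.ρ_ker ⟨j, S.le_cent (mul_mem hbH (mul_mem (mul_mem g.2 hbH)
      (inv_mem g.2)))⟩).1 ?_
    show ρ₀ S ρ (⟨b, hbH⟩ * (g * ⟨b, hbH⟩ * g⁻¹)) = 1
    rw [map_mul, map_mul, map_mul, map_inv, ← hf, hgf, hff]
  have hgb : (g : G) * b * (g : G)⁻¹ = b * j := by
    rw [hj, ← mul_assoc b b, hbb, one_mul]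
  have hjperp : ∀ w, herm v0 w = 0 → pol (φ j) w = false := by
    intro w hw
    obtain ⟨p, hp, rfl⟩ := N.toCore.φ_surj w
    refine (pol_comm' N hjJ hp).1 ?_
    have h1 : Commute b p := hcomm _ hw p hp rfl
    have hgi : (g : G)⁻¹ * p * g ∈ J := by
      have := S.conj_mem (g : G)⁻¹ (inv_mem (S.le_cent g.2)) p hp
      rwa [inv_inv] at this
    have h2 : Commute b ((g : G)⁻¹ * p * g) := by
      refine hcomm _ ?_ _ hgi rfl
      refine (hgperp _).1 ?_
      rw [show ρ₀ S ρ g (φ ((g : G)⁻¹ * p * g)) = φ ((g : G) * ((g : G)⁻¹ * p * g) * (g : G)⁻¹)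
        from (N.toCore.ρ_φ ⟨g, S.le_cent g.2⟩ _ hgi).symm]
      simpa [mul_assoc] using hw
    have h3 : Commute ((g : G) * b * (g : G)⁻¹) p := by
      have := h2.map (MulAut.conj (g : G)).toMonoidHom
      simpa [mul_assoc] using this
    exact h1.mul_left h3
  obtain ⟨c₁, hc₁⟩ := perp_perp (φ j) (fun i => hjperp _ (gen_perp _ (by
    have hi : i.val < gen.length := i.isLt
    rw [List.getD_eq_getElem _ _ hi]
    exact List.getElem_mem hi)))
  obtain ⟨u, hu⟩ : ∃ u, vadd u (f u) = φ j := by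
    obtain ⟨u, hu⟩ : ∃ u, vadd u (f u) ≠ 0 := by
      by_contra h
      push Not at h
      exact hfne (Equiv.ext fun u => (H33.U6E.vadd_eq_zero (h u)).symm)
    obtain ⟨c, hc⟩ := hline u
    rw [hc₀, smul4_smul4 c.2 c₀.2] at hc
    have hne : fmul c c₀ ≠ 0 := fun e => hu (by rw [hc, e, smul4_zero_left])
    obtain ⟨e, he4, hec⟩ := (show ∀ c < 4, c ≠ 0 → ∃ e < 4, fmul e c = 1 by decide) _
      (fmul_lt _ _) hne
    refine ⟨smul4 (fmul c₁ e) u, ?_⟩
    rw [show f (smul4 (fmul c₁ e) u) = smul4 (fmul c₁ e) (f u) from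
      hfl.smul ⟨_, fmul_lt _ _⟩ u, ← smul4_vadd (fmul_lt _ _), hc,
      smul4_smul4 (fmul_lt _ _) (fmul_lt _ _),
      ← (H50.U6C.fmul_xor_aux _ c₁.2 _ he4 _ (fmul_lt _ _)).2.2.1, hec, hc₁]
    exact congrArg (fun t => smul4 t v0)
      ((show ∀ x < 4, fmul x 1 = x by decide) _ c₁.2)
  obtain ⟨q, hq, rfl⟩ := N.toCore.φ_surj u
  have hbq : b * q * b⁻¹ ∈ J := S.conj_mem b (S.le_cent hbH) q hq
  obtain ⟨r, hr, er⟩ := φ_fibre N.toCore hjJ (mul_mem hbq (inv_mem hq)) (by
    rw [N.toCore.φ_mul _ hbq _ (inv_mem hq), φ_inv N.toCore hq,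
      show φ (b * q * b⁻¹) = f (φ q) from N.toCore.ρ_φ ⟨b, S.le_cent hbH⟩ q hq,
      H50.U6C.vadd_comm, hu])
  have hg' : ((q⁻¹ * g : G)) * b * (q⁻¹ * g)⁻¹ = b * r := by
    have hrq : Commute r q := zsub_comm S (mem_zsub.2 hr) (S.J_le hq)
    calc (q⁻¹ * g : G) * b * (q⁻¹ * g)⁻¹ = q⁻¹ * ((g : G) * b * (g : G)⁻¹) * q := by group
      _ = q⁻¹ * (b * (b * q * b⁻¹ * q⁻¹ * r)) * q := by rw [hgb, er]
      _ = q⁻¹ * (b * b) * q * b⁻¹ * q⁻¹ * (r * q) := by group
      _ = b * r := by rw [hbb, hrq.eq, hbi]; group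
  set g' := (q⁻¹ * g : G) with hg'def
  have hg'H : g' ∈ H₀ := mul_mem (inv_mem (S.J_le hq)) g.2
  have hg2 : Commute (g' * g') b := by
    refine commute_iff_conj.2 ?_
    have hrg : Commute r g' := zsub_comm S (mem_zsub.2 hr) hg'H
    have hr2 : r * r = 1 := by
      rcases hr with rfl | rfl | rfl | rfl
      · simp
      · exact S.sq
      · exact S.a_sq
      · rw [show a * z * (a * z) = a * (z * a) * z by group,
          (comm_z_of S sw hd (Or.inl rfl)).eq,
          show a * (a * z) * z = (a * a) * (z * z) by group, S.sq, S.a_sq, one_mul]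
    calc g' * g' * b * (g' * g')⁻¹ = g' * (g' * b * g'⁻¹) * g'⁻¹ := by group
      _ = g' * b * (r * g'⁻¹) := by rw [hg']; group
      _ = g' * b * g'⁻¹ * r := by rw [hrg.inv_right.eq]; group
      _ = b := by rw [hg', mul_assoc, hr2, mul_one]
  have hfin := hby _ (S.le_cent (mul_mem hg'H hg'H)) hg2
  have e := N.toCore.ρ_φ ⟨_, S.le_cent (mul_mem hg'H hg'H)⟩ y hyJ
  simp only [commute_iff_conj.1 hfin, hv0] at e
  have hρg' : ρ₀ S ρ ⟨g', hg'H⟩ v0 = smul4 2 v0 := by
    have : (⟨g', hg'H⟩ : ↥H₀) = ⟨q⁻¹, inv_mem (S.J_le hq)⟩ * g := rfl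
    rw [this, map_mul, show ρ₀ S ρ ⟨q⁻¹, inv_mem (S.J_le hq)⟩ = 1 from
      (N.toCore.ρ_ker _).2 (inv_mem hq), one_mul, hgv]
  have : ρ₀ S ρ (⟨g', hg'H⟩ * ⟨g', hg'H⟩) v0 = v0 := e.symm
  rw [map_mul, Equiv.Perm.mul_apply, hρg', isom_smul (ρ₀_isom S N _) (by norm_num), hρg'] at this
  exact two_three this

theorem no_pos {k : G} (P : Pos S k) : False := by
  obtain ⟨-, hyJ, -⟩ := shape S N sw hd P
  have hy0 : φ (k⁻¹ * z * k) ≠ 0 := fun h =>
    y_not_zsub S sw hd P (mem_zsub.2 ((N.toCore.φ_ker _ hyJ).1 h))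
  have hyq : qv (φ (k⁻¹ * z * k)) = false := by
    by_contra h
    rw [Bool.not_eq_false] at h
    have e := N.toCore.φ_sq _ hyJ
    rw [h, if_pos rfl, Pos.sq_y S k] at e
    exact S.ne_one e.symm
  obtain ⟨γ, hγ, eγ⟩ := exists_to_v0 hyq hy0
  rw [← ρ₀_range S N] at hγ
  obtain ⟨g, rfl⟩ := hγ
  have hgz := commute_iff_conj.1 (mem_cent_iff.1 (S.le_cent (inv_mem g.2)))
  have hx : k * (g : G)⁻¹ * z * (k * (g : G)⁻¹)⁻¹ = k * z * k⁻¹ := by
    rw [show k * (g : G)⁻¹ * z * (k * (g : G)⁻¹)⁻¹ =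
      k * ((g : G)⁻¹ * z * ((g : G)⁻¹)⁻¹) * k⁻¹ by group, hgz]
  refine no_pos_base S N sw hd (k := k * (g : G)⁻¹) ⟨hx ▸ P.mem, hx ▸ P.ne⟩ ?_
  rw [show (k * (g : G)⁻¹)⁻¹ * z * (k * (g : G)⁻¹) = (g : G) * (k⁻¹ * z * k) * (g : G)⁻¹ by group,
    show φ ((g : G) * (k⁻¹ * z * k) * (g : G)⁻¹) = ρ₀ S ρ g (φ (k⁻¹ * z * k)) from
      N.toCore.ρ_φ ⟨g, S.le_cent g.2⟩ _ hyJ]
  exact eγ

end main

universe u v

/-- Weak closure in the core, dead swap case. -/
theorem swapWCJ : SwapWCJStmt.{u, v} := by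
  intro G _ _ F _ _ z a J H₀ π φ ρ S N sw hd p hp hc
  obtain ⟨k, rfl⟩ := isConj_iff.1 hc
  by_contra hne
  exact no_pos S N sw hd (k := k) ⟨hp, hne⟩

end H16.Fi22C
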